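import Groth.Agent.CplFib6.QuotReg
import Mathlib

/-!
# Cotangent criterion for regular quotients at a maximal ideal
-/

set_option autoImplicit false
set_option linter.style.haveILetI false

universe u

open IsLocalRing

namespace Groth.Agent.PPoly4

attribute [local instance] Ideal.Quotient.field

/-- The cotangent space of a regular ring at a maximal ideal has dimension the height. -/
theorem finrank_cotangent_eq_height {P : Type u} [CommRing P] [IsRegularRing P] (M : Ideal P) [M.IsMaximal] :
    Module.Finite (P ⧸ M) M.Cotangent ∧ (Module.finrank (P ⧸ M) M.Cotangent : ℕ∞) = M.height := by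
  classical
  haveI : Module.Finite P M.Cotangent := Module.Finite.of_surjective M.toCotangent M.toCotangent_surjective
  haveI : Module.Finite (P ⧸ M) M.Cotangent := Module.Finite.of_restrictScalars_finite P (P ⧸ M) _
  refine ⟨inferInstance, ?_⟩
  let R1 := Localization.AtPrime M
  have hh : ((M.height : ℕ∞) : WithBot ℕ∞) = ringKrullDim R1 :=
    (IsLocalization.AtPrime.ringKrullDim_eq_height M R1).symm
  have hreg : ((maximalIdeal R1).spanFinrank : WithBot ℕ∞) = ringKrullDim R1 :=
    IsRegularLocalRing.spanFinrank_maximalIdeal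
  suffices Module.finrank (P ⧸ M) M.Cotangent = (maximalIdeal R1).spanFinrank by
    rw [this]
    rw [← hreg] at hh
    exact_mod_cast hh.symm
  have hmap : M.map (algebraMap P R1) = maximalIdeal R1 := Localization.AtPrime.map_eq_maximalIdeal
  have hspan : ∀ S : Set M, (Submodule.span (P ⧸ M) (M.toCotangent '' S) = ⊤) ↔
      M ≤ Ideal.span ((↑) '' S) ⊔ M ^ 2 := by
    intro S
    rw [← Submodule.restrictScalars_eq_top_iff P, Submodule.restrictScalars_span P (P ⧸ M) Ideal.Quotient.mk_surjective,
      ← Submodule.map_span]
    constructor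
    · intro h x hx
      obtain ⟨y, hy, hxy⟩ := (h.ge (Submodule.mem_top (x := M.toCotangent ⟨x, hx⟩)) :)
      rw [Ideal.toCotangent_eq] at hxy
      have hy' := Submodule.mem_map_of_mem (f := M.subtype) hy
      rw [Submodule.map_span] at hy'
      rw [show x = (y : P) - (y - x) by ring]
      exact sub_mem (Ideal.mem_sup_left hy') (Ideal.mem_sup_right hxy)
    · intro h
      rw [eq_top_iff]
      rintro v -
      obtain ⟨x, rfl⟩ := M.toCotangent_surjective v
      obtain ⟨y, hy, z, hz, hxy⟩ := Submodule.mem_sup.1 (h x.2)
      have hy' : y ∈ Submodule.map M.subtype (Submodule.span P S) := by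
        rw [Submodule.map_span]; exact hy
      obtain ⟨y', hy', rfl⟩ := hy'
      refine ⟨y', hy', (Ideal.toCotangent_eq M).2 ?_⟩
      rw [show ((y' : P) - x) = -z by rw [← hxy]; simp]
      exact neg_mem hz
  apply le_antisymm
  · obtain ⟨s, hs, hs'⟩ := Submodule.FG.exists_span_set_encard_eq_spanFinrank
      (IsNoetherian.noetherian (maximalIdeal R1))
    have hsfin : s.Finite := Set.finite_of_encard_eq_coe hs
    haveI := hsfin.fintype
    have hnum : ∀ y : s, ∃ a : M, ∃ u : M.primeCompl, algebraMap P R1 a = y.1 * algebraMap P R1 u := by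
      intro y
      obtain ⟨⟨a, u⟩, hau⟩ := IsLocalization.surj M.primeCompl y.1
      have ha : a ∈ M := by
        rw [← IsLocalization.AtPrime.to_map_mem_maximal_iff R1 M, ← hau]
        exact Ideal.mul_mem_right _ _ (hs' ▸ Submodule.subset_span y.2)
      exact ⟨⟨a, ha⟩, u, hau.symm⟩
    choose a v hav using hnum
    have h1 : M ≤ Ideal.span ((↑) '' Set.range a) ⊔ M ^ 2 := by
      intro x hx
      have hx1 : algebraMap P R1 x ∈ (Ideal.span ((↑) '' Set.range a)).map (algebraMap P R1) := by
        rw [Ideal.map_span]
        have h2 : algebraMap P R1 x ∈ Submodule.span R1 s := by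
          rw [hs', ← hmap]
          exact Ideal.mem_map_of_mem _ hx
        refine Submodule.span_le.2 ?_ h2
        intro y hy
        obtain ⟨w, hw⟩ := IsLocalization.map_units R1 (v ⟨y, hy⟩)
        rw [SetLike.mem_coe, show y = (↑w⁻¹ : R1) * algebraMap P R1 (a ⟨y, hy⟩) by
          rw [hav, ← hw, mul_comm y _, ← mul_assoc]; simp]
        exact Ideal.mul_mem_left _ _ (Ideal.subset_span ⟨_, ⟨_, ⟨_, rfl⟩, rfl⟩, rfl⟩)
      obtain ⟨t, ht, htx⟩ := (IsLocalization.algebraMap_mem_map_algebraMap_iff M.primeCompl R1 _ _).1 hx1
      obtain ⟨t', w, hw, hsum⟩ := (Ideal.IsMaximal.exists_inv (I := M) inferInstance ht)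
      rw [show x = t' * (t * x) + w * x by rw [← mul_assoc, ← add_mul, hsum, one_mul]]
      refine add_mem (Ideal.mem_sup_left (Ideal.mul_mem_left _ _ htx)) (Ideal.mem_sup_right ?_)
      rw [sq]
      exact Ideal.mul_mem_mul hw hx
    have h3 := (hspan _).2 h1
    rw [← Set.range_comp] at h3
    rw [← finrank_top, ← h3]
    refine le_trans (finrank_range_le_card _) (le_of_eq ?_)
    rw [← Nat.card_eq_fintype_card, Nat.card_coe_set_eq, Set.ncard_def, hs]
    rfl
  · let b := Module.finBasis (P ⧸ M) M.Cotangent
    choose x hx using fun i => M.toCotangent_surjective (b i)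
    have h1 := (hspan (Set.range x)).1 (by
      rw [← Set.range_comp]
      convert b.span_eq
      exact funext hx)
    have h2 := Ideal.map_mono (f := algebraMap P R1) h1
    rw [Ideal.map_sup, Ideal.map_pow, hmap, Ideal.map_span, sq, ← smul_eq_mul] at h2
    have h3 := Submodule.le_of_le_smul_of_le_jacobson_bot (IsNoetherian.noetherian _)
      (IsLocalRing.maximalIdeal_le_jacobson ⊥) h2
    have heq : maximalIdeal R1 = Ideal.span (algebraMap P R1 '' ((↑) '' Set.range x)) := by
      refine le_antisymm h3 (Ideal.span_le.2 ?_)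
      rintro _ ⟨_, ⟨y, -, rfl⟩, rfl⟩
      exact hmap ▸ Ideal.mem_map_of_mem _ y.2
    rw [heq]
    refine le_trans (Submodule.spanFinrank_span_le_ncard_of_finite (((Set.finite_range x).image _).image _)) ?_
    refine le_trans (Set.ncard_image_le ((Set.finite_range x).image _)) (le_trans (Set.ncard_image_le (Set.finite_range x)) ?_)
    rw [← Set.image_univ]
    exact le_trans (Set.ncard_image_le (Set.toFinite _)) (by simp [Set.ncard_univ])

/-- A local quotient of a regular ring at a maximal ideal by `r` elements, of dimension `height - r`, is regular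
iff their classes in the cotangent space are linearly independent. -/
theorem isRegularLocalRing_quot_iff {P : Type u} [CommRing P] [IsRegularRing P] (M : Ideal P) [M.IsMaximal]
    {r : ℕ} (F : Fin r → M) [hloc : IsLocalRing (P ⧸ Ideal.span (Set.range fun i => (F i : P)))]
    (hmax : maximalIdeal (P ⧸ Ideal.span (Set.range fun i => (F i : P))) =
      M.map (Ideal.Quotient.mk (Ideal.span (Set.range fun i => (F i : P)))))
    (n : ℕ) (hdim : ringKrullDim (P ⧸ Ideal.span (Set.range fun i => (F i : P))) = (n : WithBot ℕ∞))
    (hM : M.height = ((n + r : ℕ) : ℕ∞)) :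
    IsRegularLocalRing (P ⧸ Ideal.span (Set.range fun i => (F i : P))) ↔
      LinearIndependent (P ⧸ M) (fun i => M.toCotangent (F i)) := by
  classical
  obtain ⟨hfin, hD⟩ := finrank_cotangent_eq_height M
  haveI := hfin
  rw [hM] at hD
  have hD' : Module.finrank (P ⧸ M) M.Cotangent = n + r := by exact_mod_cast hD
  set B := P ⧸ Ideal.span (Set.range fun i => (F i : P))
  set v := fun i => M.toCotangent (F i)
  set W := Submodule.span (P ⧸ M) (Set.range v)
  have hq := W.finrank_quotient_add_finrank
  constructor
  · intro hB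
    rw [linearIndependent_iff_card_le_finrank_span, Fintype.card_fin]
    have hgen : (maximalIdeal B).spanFinrank = n := by
      have h := hB.spanFinrank_maximalIdeal
      rw [hdim] at h
      exact_mod_cast h
    obtain ⟨s, hs, hspan⟩ := Submodule.FG.exists_span_set_encard_eq_spanFinrank
      (IsNoetherian.noetherian (maximalIdeal B))
    have hsfin : s.Finite := Set.finite_of_encard_eq_coe hs
    haveI := hsfin.fintype
    have hlift : ∀ y : s, ∃ z : M, Ideal.Quotient.mk _ (z : P) = y.1 := by
      intro y
      have hy : y.1 ∈ maximalIdeal B := hspan ▸ Submodule.subset_span y.2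
      rw [hmax, Ideal.mem_map_iff_of_surjective _ Ideal.Quotient.mk_surjective] at hy
      obtain ⟨z, hz, hz'⟩ := hy
      exact ⟨⟨z, hz⟩, hz'⟩
    choose z hz using hlift
    have htop : Submodule.span (P ⧸ M) (Set.range fun y => W.mkQ (M.toCotangent (z y))) = ⊤ := by
      rw [eq_top_iff]
      rintro w -
      obtain ⟨w, rfl⟩ := W.mkQ_surjective w
      obtain ⟨f, rfl⟩ := M.toCotangent_surjective w
      have hf : Ideal.Quotient.mk _ (f : P) ∈ Ideal.span (Set.range fun y : s => (y : B)) := by
        rw [Subtype.range_coe]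
        show _ ∈ Submodule.span B s
        rw [hspan]
        exact hmax ▸ Ideal.mem_map_of_mem _ f.2
      obtain ⟨g, hg⟩ := (Ideal.mem_span_range_iff_exists_fun).1 hf
      choose g' hg' using fun y => Ideal.Quotient.mk_surjective (g y)
      have h0 : (f : P) - ∑ y, g' y * z y ∈ Ideal.span (Set.range fun i => (F i : P)) := by
        rw [← Ideal.Quotient.eq_zero_iff_mem, map_sub, map_sum]
        simp only [map_mul, hg', hz]
        rw [← hg, sub_self]
      obtain ⟨k, hk⟩ := Ideal.mem_span_range_iff_exists_fun.1 h0
      have hf' : f = ∑ y, g' y • z y + ∑ i, k i • F i := by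
        apply Subtype.ext
        simp only [Submodule.coe_add, AddSubmonoidClass.coe_finsetSum, SetLike.val_smul, smul_eq_mul]
        rw [hk]; ring
      rw [hf', map_add, map_add, map_sum, map_sum, map_sum, map_sum]
      refine add_mem (sum_mem fun y _ => ?_) (sum_mem fun i _ => ?_)
      · rw [LinearMap.map_smul, ← IsScalarTower.algebraMap_smul (P ⧸ M) (g' y) (M.toCotangent (z y)), map_smul]
        exact Submodule.smul_mem _ _ (Submodule.subset_span ⟨y, rfl⟩)
      · have : M.toCotangent (k i • F i) ∈ W := by
          rw [LinearMap.map_smul, ← IsScalarTower.algebraMap_smul (P ⧸ M) (k i) (M.toCotangent (F i))]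
          exact Submodule.smul_mem _ _ (Submodule.subset_span ⟨i, rfl⟩)
        rw [Submodule.mkQ_apply, (Submodule.Quotient.mk_eq_zero _).2 this]
        exact zero_mem _
    have hle : Module.finrank (P ⧸ M) (M.Cotangent ⧸ W) ≤ n := by
      rw [← finrank_top, ← htop]
      refine le_trans (finrank_range_le_card _) (le_of_eq ?_)
      rw [← Nat.card_eq_fintype_card, Nat.card_coe_set_eq, Set.ncard_def, hs, hgen]
      rfl
    change r ≤ Module.finrank (P ⧸ M) W
    omega
  · intro hind
    have hW : Module.finrank (P ⧸ M) W = r := (finrank_span_eq_card hind).trans (Fintype.card_fin r)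
    let bq := Module.finBasis (P ⧸ M) (M.Cotangent ⧸ W)
    choose q hq' using fun j => W.mkQ_surjective (bq j)
    choose a ha using fun j => M.toCotangent_surjective (q j)
    have htop : Submodule.span (P ⧸ M) (Set.range fun j => M.toCotangent (a j)) ⊔ W = ⊤ := by
      rw [sup_comm, ← Submodule.map_mkQ_eq_top, eq_top_iff, ← bq.span_eq, Submodule.map_span, ← Set.range_comp]
      refine Submodule.span_mono ?_
      rintro _ ⟨j, rfl⟩
      exact ⟨j, by simp [ha, hq']⟩
    have hM2 : M ≤ Ideal.span (Set.range fun j => (a j : P)) ⊔ Ideal.span (Set.range fun i => (F i : P)) ⊔ M ^ 2 := by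
      intro x hx
      have h1 := congrArg (Submodule.restrictScalars P) htop
      rw [Submodule.restrictScalars_sup, Submodule.restrictScalars_top,
        Submodule.restrictScalars_span P (P ⧸ M) Ideal.Quotient.mk_surjective,
        Submodule.restrictScalars_span P (P ⧸ M) Ideal.Quotient.mk_surjective,
        ← Submodule.span_union, Set.range_comp' M.toCotangent a, show v = M.toCotangent ∘ F from rfl, Set.range_comp,
        ← Set.image_union, ← Submodule.map_span] at h1
      obtain ⟨y, hy, hxy⟩ := (h1.ge (Submodule.mem_top (x := M.toCotangent ⟨x, hx⟩)) :)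
      rw [Ideal.toCotangent_eq] at hxy
      have hy' := Submodule.mem_map_of_mem (f := M.subtype) hy
      rw [Submodule.map_span, Set.image_union, ← Set.range_comp, ← Set.range_comp, Submodule.span_union] at hy'
      rw [show x = (y : P) - (y - x) by ring]
      exact sub_mem (Ideal.mem_sup_left hy') (Ideal.mem_sup_right hxy)
    have h2 := Ideal.map_mono (f := Ideal.Quotient.mk (Ideal.span (Set.range fun i => (F i : P)))) hM2
    rw [Ideal.map_sup, Ideal.map_sup, Ideal.map_quotient_self, sup_bot_eq, Ideal.map_pow, Ideal.map_span, ← hmax, sq,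
      ← smul_eq_mul] at h2
    have h3 := Submodule.le_of_le_smul_of_le_jacobson_bot (IsNoetherian.noetherian _)
      (IsLocalRing.maximalIdeal_le_jacobson ⊥) h2
    refine IsRegularLocalRing.of_spanFinrank_maximalIdeal_le B ?_
    rw [hdim]
    have heq : maximalIdeal B = Ideal.span (Ideal.Quotient.mk (Ideal.span (Set.range fun i => (F i : P))) ''
        Set.range fun j => (a j : P)) := by
      refine le_antisymm h3 (Ideal.span_le.2 ?_)
      rintro _ ⟨_, ⟨j, rfl⟩, rfl⟩
      exact hmax ▸ Ideal.mem_map_of_mem _ (a j).2
    rw [heq]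
    refine le_trans (Nat.cast_le.2 (Submodule.spanFinrank_span_le_ncard_of_finite
      ((Set.finite_range _).image _))) (Nat.cast_le.2 ?_)
    refine le_trans (Set.ncard_image_le (Set.finite_range _)) ?_
    rw [← Set.image_univ]
    refine le_trans (Set.ncard_image_le (Set.toFinite _)) ?_
    rw [Set.ncard_univ, Nat.card_eq_fintype_card, Fintype.card_fin]
    omega

end Groth.Agent.PPoly4
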