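import Mathlib.RingTheory.RegularLocalRing.Defs
import Mathlib

/-!
# Quotients of polynomial rings over local rings by monic polynomials in separate variables
-/

set_option autoImplicit false
set_option linter.style.haveILetI false

universe u

open IsLocalRing MvPolynomial

namespace Groth.Agent.PPoly4

variable {A : Type u} [CommRing A] {ι : Type*}

/-- The polynomial `X_i ^ d_i + ∑_{k < d_i} c_{ik} X_i ^ k`. -/
noncomputable def monicF (d : ι → ℕ) (c : ι → ℕ → A) (i : ι) : MvPolynomial ι A :=
  X i ^ d i + (Finset.range (d i)).sum fun k => C (c i k) * X i ^ k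

theorem isIntegral_quot (d : ι → ℕ) (c : ι → ℕ → A) :
    Algebra.IsIntegral A (MvPolynomial ι A ⧸ Ideal.span (Set.range (monicF d c))) := by
  constructor
  intro x
  obtain ⟨f, rfl⟩ := Ideal.Quotient.mkₐ_surjective A _ x
  induction f using MvPolynomial.induction_on with
  | C a =>
      rw [← algebraMap_eq, AlgHom.commutes]
      exact isIntegral_algebraMap
  | add f g hf hg => rw [map_add]; exact hf.add hg
  | mul_X f i hf =>
      rw [map_mul]
      refine hf.mul ?_
      refine ⟨Polynomial.X ^ d i + (Finset.range (d i)).sum fun k => Polynomial.C (c i k) * Polynomial.X ^ k,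
        Polynomial.monic_X_pow_add ?_, ?_⟩
      · refine lt_of_le_of_lt (Polynomial.degree_sum_le _ _) ((Finset.sup_lt_iff (WithBot.bot_lt_coe _)).2 ?_)
        intro k hk
        exact lt_of_le_of_lt (Polynomial.degree_C_mul_X_pow_le _ _) (by exact_mod_cast Finset.mem_range.1 hk)
      · have h0 : (Ideal.Quotient.mkₐ A (Ideal.span (Set.range (monicF d c)))) (monicF d c i) = 0 := by
          rw [Ideal.Quotient.mkₐ_eq_mk, Ideal.Quotient.eq_zero_iff_mem]
          exact Ideal.subset_span ⟨i, rfl⟩
        rw [← Polynomial.aeval_def, Polynomial.aeval_algHom_apply]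
        convert h0 using 2
        simp [monicF]

theorem finite_quot [Finite ι] (d : ι → ℕ) (c : ι → ℕ → A) :
    Module.Finite A (MvPolynomial ι A ⧸ Ideal.span (Set.range (monicF d c))) :=
  haveI := isIntegral_quot d c
  Algebra.IsIntegral.finite

variable [IsLocalRing A]

variable (A ι) in
/-- The maximal ideal at the closed point of the zero section. -/
noncomputable def M0 : Ideal (MvPolynomial ι A) :=
  RingHom.ker ((residue A).comp (constantCoeff (σ := ι) (R := A)))

theorem mem_M0 {f : MvPolynomial ι A} : f ∈ M0 A ι ↔ constantCoeff f ∈ maximalIdeal A := by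
  simp [M0, RingHom.mem_ker, residue_eq_zero_iff]

theorem M0_isMaximal : (M0 A ι).IsMaximal :=
  RingHom.ker_isMaximal_of_surjective _ fun x => by
    obtain ⟨a, rfl⟩ := IsLocalRing.residue_surjective x
    exact ⟨C a, by simp⟩

theorem sub_C_mem (f : MvPolynomial ι A) :
    f - C (constantCoeff f) ∈ Ideal.span (Set.range (X : ι → MvPolynomial ι A)) := by
  induction f using MvPolynomial.induction_on with
  | C a => simp
  | add f g hf hg =>
      rw [map_add, map_add, show f + g - (C (constantCoeff f) + C (constantCoeff g)) =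
        (f - C (constantCoeff f)) + (g - C (constantCoeff g)) by ring]
      exact add_mem hf hg
  | mul_X f i _ =>
      rw [map_mul, constantCoeff_X, mul_zero, map_zero, sub_zero]
      exact Ideal.mul_mem_left _ _ (Ideal.subset_span ⟨i, rfl⟩)

theorem M0_eq : M0 A ι = (maximalIdeal A).map C ⊔ Ideal.span (Set.range X) := by
  apply le_antisymm
  · intro f hf
    rw [← sub_add_cancel f (C (constantCoeff f))]
    exact add_mem (Ideal.mem_sup_right (sub_C_mem f)) (Ideal.mem_sup_left (Ideal.mem_map_of_mem _ (mem_M0.1 hf)))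
  · refine sup_le (Ideal.map_le_iff_le_comap.2 fun a ha => ?_) (Ideal.span_le.2 ?_)
    · rw [Ideal.mem_comap, mem_M0, constantCoeff_C]
      exact ha
    · rintro _ ⟨i, rfl⟩
      rw [SetLike.mem_coe, mem_M0, constantCoeff_X]
      exact zero_mem _

variable (d : ι → ℕ) (hd : ∀ i, 2 ≤ d i) (c : ι → ℕ → A) (hc : ∀ i k, c i k ∈ maximalIdeal A)

theorem constantCoeff_monicF (hd : ∀ i, 2 ≤ d i) (i : ι) : constantCoeff (monicF d c i) = c i 0 := by
  have h0 : d i ≠ 0 := by have := hd i; omega
  rw [monicF, map_add, map_pow, constantCoeff_X, zero_pow h0, zero_add, map_sum,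
    Finset.sum_eq_single 0]
  · simp
  · intro k _ hk
    simp [hk]
  · intro h
    exact absurd (Finset.mem_range.2 (by omega)) h

include hd hc in
theorem span_le_M0 : Ideal.span (Set.range (monicF d c)) ≤ M0 A ι := by
  rw [Ideal.span_le]
  rintro _ ⟨i, rfl⟩
  rw [SetLike.mem_coe, mem_M0, constantCoeff_monicF d c hd i]
  exact hc i 0

include hd hc in
theorem isLocalRing_quot :
    ∃ _ : IsLocalRing (MvPolynomial ι A ⧸ Ideal.span (Set.range (monicF d c))),
      maximalIdeal (MvPolynomial ι A ⧸ Ideal.span (Set.range (monicF d c))) =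
        (M0 A ι).map (Ideal.Quotient.mk _) := by
  haveI := M0_isMaximal (A := A) (ι := ι)
  set M := (M0 A ι).map (Ideal.Quotient.mk (Ideal.span (Set.range (monicF d c))))
  have hM : M.IsMaximal :=
    Ideal.IsMaximal.map_of_surjective_of_ker_le Ideal.Quotient.mk_surjective
      (by rw [Ideal.mk_ker]; exact span_le_M0 d hd c hc)
  haveI := isIntegral_quot d c
  have hu : ∀ N : Ideal (MvPolynomial ι A ⧸ Ideal.span (Set.range (monicF d c))), N.IsMaximal → N = M := by
    intro N hN
    haveI := hN
    have hm : N.comap (algebraMap A _) = maximalIdeal A :=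
      IsLocalRing.eq_maximalIdeal (Ideal.isMaximal_comap_of_isIntegral_of_isMaximal N)
    symm
    refine hM.eq_of_le hN.ne_top (Ideal.map_le_iff_le_comap.2 ?_)
    rw [M0_eq]
    have hC : ∀ a ∈ maximalIdeal A, Ideal.Quotient.mk (Ideal.span (Set.range (monicF d c))) (C a) ∈ N := by
      intro a ha
      rw [← hm] at ha
      exact ha
    refine sup_le (Ideal.map_le_iff_le_comap.2 fun a ha => hC a ha) (Ideal.span_le.2 ?_)
    rintro _ ⟨i, rfl⟩
    rw [SetLike.mem_coe, Ideal.mem_comap]
    refine hN.isPrime.mem_of_pow_mem (d i) ?_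
    have h0 : Ideal.Quotient.mk (Ideal.span (Set.range (monicF d c))) (monicF d c i) = 0 :=
      Ideal.Quotient.eq_zero_iff_mem.2 (Ideal.subset_span ⟨i, rfl⟩)
    rw [monicF, map_add, map_pow, map_sum, add_eq_zero_iff_eq_neg] at h0
    rw [h0, neg_mem_iff]
    refine sum_mem fun k _ => ?_
    rw [map_mul]
    exact Ideal.mul_mem_right _ _ (hC _ (hc i k))
  haveI : IsLocalRing (MvPolynomial ι A ⧸ Ideal.span (Set.range (monicF d c))) :=
    IsLocalRing.of_unique_max_ideal ⟨M, hM, hu⟩
  exact ⟨inferInstance, (IsLocalRing.eq_maximalIdeal hM).symm⟩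

theorem residue_surjective_quot (I : Ideal (MvPolynomial ι A)) (M : Ideal (MvPolynomial ι A ⧸ I))
    (hM : M = (M0 A ι).map (Ideal.Quotient.mk I)) :
    Function.Surjective ((Ideal.Quotient.mk M).comp (algebraMap A (MvPolynomial ι A ⧸ I))) := by
  intro y
  obtain ⟨x, rfl⟩ := Ideal.Quotient.mk_surjective y
  obtain ⟨f, rfl⟩ := Ideal.Quotient.mk_surjective x
  refine ⟨constantCoeff f, ?_⟩
  rw [RingHom.comp_apply, Ideal.Quotient.eq, hM]
  have h : C (constantCoeff f) - f ∈ M0 A ι := by
    rw [M0_eq, ← neg_sub, neg_mem_iff]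
    exact Ideal.mem_sup_right (sub_C_mem f)
  have h2 := Ideal.mem_map_of_mem (Ideal.Quotient.mk I) h
  rw [map_sub] at h2
  exact h2

include hd hc in
theorem C_constant_mem_sq (i : ι) :
    C (c i 0) ∈ Ideal.span (Set.range (monicF d c)) ⊔ M0 A ι ^ 2 := by
  have hX : ∀ j, (X j : MvPolynomial ι A) ∈ M0 A ι := fun j => by
    rw [mem_M0, constantCoeff_X]; exact zero_mem _
  have hC : ∀ a ∈ maximalIdeal A, (C a : MvPolynomial ι A) ∈ M0 A ι := fun a ha => by
    rw [mem_M0, constantCoeff_C]; exact ha
  have h0 : (0 : ℕ) ∈ Finset.range (d i) := Finset.mem_range.2 (by have := hd i; omega)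
  have e : C (c i 0) = monicF d c i -
      (X i ^ d i + ((Finset.range (d i)).erase 0).sum fun k => C (c i k) * X i ^ k) := by
    rw [monicF, ← Finset.add_sum_erase _ _ h0, pow_zero, mul_one]
    ring
  rw [e]
  refine sub_mem (Ideal.mem_sup_left (Ideal.subset_span ⟨i, rfl⟩)) (Ideal.mem_sup_right (add_mem ?_ ?_))
  · exact Ideal.pow_le_pow_right (hd i) (Ideal.pow_mem_pow (hX i) _)
  · refine sum_mem fun k hk => ?_
    obtain ⟨j, rfl⟩ := Nat.exists_eq_add_one_of_ne_zero (Finset.ne_of_mem_erase hk)
    rw [sq, pow_succ' (X i : MvPolynomial ι A) j]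
    exact Ideal.mul_mem_mul (hC _ (hc i _)) (Ideal.mul_mem_right _ _ (hX i))

end Groth.Agent.PPoly4
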