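import Groth.Agent.PPoly4.Monic
import Groth.Agent.CplFib6.QuotReg
import Groth.Agent.EGA41Lib.IntDim
import Groth.Agent.RegLoc6.Basic

/-!
# Regularity of quotients by monic polynomials in separate variables
-/

set_option autoImplicit false
set_option linter.style.haveILetI false

universe u

open IsLocalRing MvPolynomial

namespace Groth.Agent.PPoly4

variable {A : Type u} [CommRing A] [IsLocalRing A] {ι : Type*}

theorem comap_sq_eq (d : ι → ℕ) (hd : ∀ i, 2 ≤ d i) (c : ι → ℕ → A) (hc : ∀ i k, c i k ∈ maximalIdeal A) :
    maximalIdeal A ⊓ Ideal.comap (algebraMap A (MvPolynomial ι A ⧸ Ideal.span (Set.range (monicF d c))))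
        (((M0 A ι).map (Ideal.Quotient.mk (Ideal.span (Set.range (monicF d c))))) ^ 2) =
      Ideal.span (Set.range fun i => c i 0) ⊔ maximalIdeal A ^ 2 := by
  apply le_antisymm
  · rintro x ⟨-, hx⟩
    have hx' : C x ∈ M0 A ι ^ 2 ⊔ Ideal.span (Set.range (monicF d c)) := by
      have := hx
      rw [SetLike.mem_coe, Ideal.mem_comap, ← Ideal.map_pow] at this
      change Ideal.Quotient.mk _ (C x) ∈ _ at this
      rw [← Ideal.mem_comap, Ideal.comap_map_of_surjective _ Ideal.Quotient.mk_surjective,
        ← RingHom.ker_eq_comap_bot, Ideal.mk_ker] at this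
      exact this
    have h1 : (M0 A ι).map (constantCoeff (σ := ι) (R := A)) ≤ maximalIdeal A :=
      Ideal.map_le_iff_le_comap.2 fun f hf => mem_M0.1 hf
    have h2 : (Ideal.span (Set.range (monicF d c))).map (constantCoeff (σ := ι) (R := A)) ≤
        Ideal.span (Set.range fun i => c i 0) := by
      rw [Ideal.map_span, Ideal.span_le]
      rintro _ ⟨_, ⟨i, rfl⟩, rfl⟩
      rw [constantCoeff_monicF d c hd]
      exact Ideal.subset_span ⟨i, rfl⟩
    have h3 := Ideal.mem_map_of_mem (constantCoeff (σ := ι) (R := A)) hx'
    rw [constantCoeff_C, Ideal.map_sup, Ideal.map_pow] at h3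
    exact (sup_le (le_trans (Ideal.pow_right_mono h1 2) le_sup_right) (le_trans h2 le_sup_left)) h3
  · refine sup_le (Ideal.span_le.2 ?_) ?_
    · rintro _ ⟨i, rfl⟩
      refine ⟨hc i 0, ?_⟩
      rw [SetLike.mem_coe, Ideal.mem_comap, ← Ideal.map_pow]
      change Ideal.Quotient.mk _ (C (c i 0)) ∈ _
      rw [← Ideal.mem_comap, Ideal.comap_map_of_surjective _ Ideal.Quotient.mk_surjective,
        ← RingHom.ker_eq_comap_bot, Ideal.mk_ker, sup_comm]
      exact C_constant_mem_sq d hd c hc i
    · refine le_inf (Ideal.pow_le_self two_ne_zero) ?_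
      refine le_trans (Ideal.pow_right_mono ?_ 2) (Ideal.le_comap_pow _ 2)
      intro a ha
      rw [Ideal.mem_comap]
      exact Ideal.mem_map_of_mem _ (show C a ∈ M0 A ι by rw [mem_M0, constantCoeff_C]; exact ha)

theorem algebraMap_quot_injective {A : Type u} [CommRing A] [IsDomain A] (d : ι → ℕ) (hd : ∀ i, 2 ≤ d i)
    (c : ι → ℕ → A) :
    Function.Injective (algebraMap A (MvPolynomial ι A ⧸ Ideal.span (Set.range (monicF d c)))) := by
  let Ω := AlgebraicClosure (FractionRing A)
  let g : A →+* Ω := (algebraMap (FractionRing A) Ω).comp (algebraMap A (FractionRing A))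
  have hg : Function.Injective g :=
    (algebraMap (FractionRing A) Ω).injective.comp (IsFractionRing.injective A (FractionRing A))
  have hroot : ∀ i, ∃ t : Ω,
      (Polynomial.X ^ d i + (Finset.range (d i)).sum fun k => Polynomial.C (g (c i k)) * Polynomial.X ^ k).eval t = 0 := by
    intro i
    have hlt : ((Finset.range (d i)).sum fun k => Polynomial.C (g (c i k)) * Polynomial.X ^ k).degree <
        ((d i : ℕ) : WithBot ℕ) :=
      lt_of_le_of_lt (Polynomial.degree_sum_le _ _) ((Finset.sup_lt_iff (WithBot.bot_lt_coe _)).2 fun k hk =>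
        lt_of_le_of_lt (Polynomial.degree_C_mul_X_pow_le _ _) (by exact_mod_cast Finset.mem_range.1 hk))
    refine IsAlgClosed.exists_root _ ?_
    rw [Polynomial.degree_add_eq_left_of_degree_lt (by rw [Polynomial.degree_X_pow]; exact hlt),
      Polynomial.degree_X_pow]
    have := hd i
    exact_mod_cast (by omega : d i ≠ 0)
  choose t ht using hroot
  let φ := MvPolynomial.eval₂Hom g t
  have hker : Ideal.span (Set.range (monicF d c)) ≤ RingHom.ker φ := by
    rw [Ideal.span_le]
    rintro _ ⟨i, rfl⟩
    have := ht i
    rw [SetLike.mem_coe, RingHom.mem_ker]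
    simpa [φ, monicF, Polynomial.eval_finsetSum, map_sum] using this
  intro a b hab
  apply hg
  change Ideal.Quotient.mk (Ideal.span (Set.range (monicF d c))) (C a) = Ideal.Quotient.mk _ (C b) at hab
  have h := congrArg (Ideal.Quotient.lift _ φ hker) hab
  rwa [Ideal.Quotient.lift_mk, Ideal.Quotient.lift_mk, show φ (C a) = g a from MvPolynomial.eval₂Hom_C _ _ _,
    show φ (C b) = g b from MvPolynomial.eval₂Hom_C _ _ _] at h

/-- An upper bound for the number of generators in terms of a lift of a basis. -/
theorem maximalIdeal_le_span {d : ι → ℕ} {c : ι → ℕ → A} (hd : ∀ i, 2 ≤ d i) (hc : ∀ i k, c i k ∈ maximalIdeal A)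
    (S : Set A) (hS : maximalIdeal A ≤ Ideal.span S ⊔ Ideal.span (Set.range fun i => c i 0) ⊔ maximalIdeal A ^ 2) :
    M0 A ι ≤ (Ideal.span ((C : A → MvPolynomial ι A) '' S ∪ Set.range X) ⊔ M0 A ι ^ 2) ⊔
      Ideal.span (Set.range (monicF d c)) := by
  conv_lhs => rw [M0_eq]
  refine sup_le ?_ (le_trans (Ideal.span_mono Set.subset_union_right) (le_trans le_sup_left le_sup_left))
  refine le_trans (Ideal.map_mono hS) ?_
  rw [Ideal.map_sup, Ideal.map_sup, Ideal.map_span, Ideal.map_span, Ideal.map_pow]
  refine sup_le (sup_le (le_trans (Ideal.span_mono Set.subset_union_left) (le_trans le_sup_left le_sup_left))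
    (Ideal.span_le.2 ?_)) ?_
  · rintro _ ⟨_, ⟨i, rfl⟩, rfl⟩
    exact SetLike.le_def.1 (sup_le le_sup_right (le_trans le_sup_right le_sup_left)) (C_constant_mem_sq d hd c hc i)
  · refine le_trans (Ideal.pow_right_mono ?_ 2) (le_trans le_sup_right le_sup_left)
    rw [M0_eq]
    exact le_sup_left

/-- The map reading off the constant and linear coefficients. -/
theorem exists_readOff [Finite ι] (d : ι → ℕ) (hd : ∀ i, 2 ≤ d i) (c : ι → ℕ → A)
    (hc : ∀ i k, c i k ∈ maximalIdeal A) :
    ∃ φ : M0 A ι →+ ((maximalIdeal A).Cotangent ⧸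
        (Submodule.span A (Set.range fun i => (maximalIdeal A).toCotangent ⟨c i 0, hc i 0⟩))) ×
          (ι → ResidueField A),
      (∀ (g : MvPolynomial ι A) (f : M0 A ι), φ (g • f) = constantCoeff g • φ f) ∧
      (∀ (f : M0 A ι), (f : MvPolynomial ι A) ∈ Ideal.span (Set.range (monicF d c)) → φ f = 0) ∧
      Function.Surjective φ := by
  classical
  set W := Submodule.span A (Set.range fun i => (maximalIdeal A).toCotangent ⟨c i 0, hc i 0⟩)
  let φ : M0 A ι →+ ((maximalIdeal A).Cotangent ⧸ W) × (ι → ResidueField A) :=
    AddMonoidHom.mk' (fun f => (W.mkQ ((maximalIdeal A).toCotangent ⟨constantCoeff f.1, mem_M0.1 f.2⟩),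
      fun i => residue A (coeff (Finsupp.single i 1) f.1)))
      (fun f g => by
        refine Prod.ext ?_ (funext fun i => by simp)
        simp only [Prod.fst_add]
        rw [← map_add, ← map_add]
        congr 2)
  have hsmul : ∀ (g : MvPolynomial ι A) (f : M0 A ι), φ (g • f) = constantCoeff g • φ f := by
    intro g f
    refine Prod.ext ?_ (funext fun i => ?_)
    · show W.mkQ _ = constantCoeff g • W.mkQ _
      rw [← map_smul, ← map_smul]
      congr 2
      exact Subtype.ext (map_mul _ _ _)
    · show residue A (coeff (Finsupp.single i 1) (g * f.1)) =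
        constantCoeff g • residue A (coeff (Finsupp.single i 1) f.1)
      have hf0 : residue A (coeff 0 f.1) = 0 := by
        rw [residue_eq_zero_iff]
        exact mem_M0.1 f.2
      rw [coeff_mul, Finsupp.antidiagonal_single, Finset.sum_map, Finset.Nat.antidiagonal_succ, Finset.sum_cons]
      simp [hf0, Algebra.smul_def, constantCoeff_eq]
  refine ⟨φ, hsmul, ?_, ?_⟩
  · suffices ∀ x ∈ Ideal.span (Set.range (monicF d c)), ∀ h : x ∈ M0 A ι, φ ⟨x, h⟩ = 0 from
      fun f hf => this f.1 hf f.2
    intro x hx
    induction hx using Submodule.span_induction with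
    | mem x hx =>
      intro h
      obtain ⟨i, rfl⟩ := hx
      refine Prod.ext ?_ (funext fun j => ?_)
      · show W.mkQ _ = 0
        rw [Submodule.mkQ_apply, Submodule.Quotient.mk_eq_zero]
        exact Submodule.subset_span ⟨i, congrArg (maximalIdeal A).toCotangent
          (Subtype.ext (constantCoeff_monicF d c hd i).symm :
            (⟨c i 0, hc i 0⟩ : maximalIdeal A) = ⟨constantCoeff (monicF d c i), mem_M0.1 h⟩)⟩
      · show residue A (coeff (Finsupp.single j 1) (monicF d c i)) = 0
        have h2 : coeff (Finsupp.single j 1) ((X i : MvPolynomial ι A) ^ d i) = 0 := by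
          rw [coeff_X_pow, if_neg]
          intro e
          have h5 := congrArg (fun v => v j) e
          have h6 := hd i
          rcases eq_or_ne i j with rfl | hij
          · simp at h5; omega
          · simp [hij] at h5
        rw [monicF, coeff_add, h2, zero_add, residue_eq_zero_iff, coeff_sum]
        refine sum_mem fun k _ => ?_
        rw [coeff_C_mul]
        exact Ideal.mul_mem_right _ _ (hc i k)
    | zero => exact fun _ => φ.map_zero
    | add x y hx hy ihx ihy =>
      intro h
      have h1 := span_le_M0 d hd c hc hx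
      have h2 := span_le_M0 d hd c hc hy
      rw [show (⟨x + y, h⟩ : M0 A ι) = ⟨x, h1⟩ + ⟨y, h2⟩ from rfl, map_add, ihx h1, ihy h2, add_zero]
    | smul a x hx ihx =>
      intro h
      have h1 := span_le_M0 d hd c hc hx
      rw [show (⟨a • x, h⟩ : M0 A ι) = a • ⟨x, h1⟩ from rfl, hsmul, ihx h1, smul_zero]
  · rintro ⟨w, v⟩
    haveI := Fintype.ofFinite ι
    obtain ⟨w, rfl⟩ := W.mkQ_surjective w
    obtain ⟨a, rfl⟩ := (maximalIdeal A).toCotangent_surjective w
    choose b hb using fun i => IsLocalRing.residue_surjective (v i)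
    have hm : C a.1 + ∑ i, C (b i) * X i ∈ M0 A ι := by
      rw [mem_M0]
      simp
    refine ⟨⟨_, hm⟩, Prod.ext ?_ (funext fun i => ?_)⟩
    · show W.mkQ _ = _
      congr 2
      exact Subtype.ext (by simp)
    · show residue A (coeff (Finsupp.single i 1) (C a.1 + ∑ j, C (b j) * X j)) = v i
      rw [← hb i]
      congr 1
      rw [coeff_add, coeff_C, if_neg (fun e => Finsupp.single_ne_zero.2 one_ne_zero e.symm), zero_add, coeff_sum,
        Finset.sum_eq_single i]
      · simp [coeff_C_mul]
      · intro j _ hj
        rw [coeff_C_mul, coeff_X, if_neg, mul_zero]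
        exact fun e => hj (Finsupp.single_left_inj one_ne_zero |>.1 e)
      · simp


theorem regular_iff {A : Type u} [CommRing A] [IsRegularLocalRing A] {r : ℕ} (d : Fin r → ℕ) (hd : ∀ i, 2 ≤ d i)
    (c : Fin r → ℕ → A) (hc : ∀ i k, c i k ∈ maximalIdeal A) :
    IsRegularRing (MvPolynomial (Fin r) A ⧸ Ideal.span (Set.range (monicF d c))) ↔
      LinearIndependent (ResidueField A) (fun i => (maximalIdeal A).toCotangent ⟨c i 0, hc i 0⟩) := by
  classical
  haveI : IsDomain A := RegLoc6.isDomain_of_isRegularLocalRing A
  set B := MvPolynomial (Fin r) A ⧸ Ideal.span (Set.range (monicF d c))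
  obtain ⟨hloc, hmax⟩ := isLocalRing_quot d hd c hc
  haveI := hloc
  haveI : Module.Finite A B := finite_quot d c
  haveI : Algebra.IsIntegral A B := isIntegral_quot d c
  haveI : IsNoetherianRing B := IsNoetherianRing.of_finite A B
  have hdim : ringKrullDim B = ringKrullDim A :=
    EGA41Lib.ringKrullDim_eq_of_integral (algebraMap_quot_injective d hd c)
  have hA : (Module.finrank (ResidueField A) (CotangentSpace A) : WithBot ℕ∞) = ringKrullDim A :=
    (IsRegularLocalRing.iff_finrank_cotangentSpace A).1 inferInstance
  have e1 : IsRegularRing B ↔ IsRegularLocalRing B :=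
    ⟨fun h => IsRegularLocalRing.of_isRegularRing_of_isLocalRing B,
      fun h => CplFib6.isRegularRing_of_local B⟩
  set cb := fun i => (maximalIdeal A).toCotangent ⟨c i 0, hc i 0⟩
  set n := Module.finrank (ResidueField A) (CotangentSpace A)
  have hrest : (Submodule.span (ResidueField A) (Set.range cb)).restrictScalars A = Submodule.span A (Set.range cb) :=
    Submodule.restrictScalars_span A (ResidueField A) IsLocalRing.residue_surjective _
  have hrk := (Submodule.span (ResidueField A) (Set.range cb : Set (CotangentSpace A))).finrank_quotient_add_finrank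
  rw [e1]
  constructor
  · intro hB
    rw [linearIndependent_iff_card_le_finrank_span, Fintype.card_fin]
    have hgen : (maximalIdeal B).spanFinrank = n := by
      have h := hB.spanFinrank_maximalIdeal
      rw [hdim, ← hA] at h
      exact_mod_cast h
    have hfg : (maximalIdeal B).FG := IsNoetherian.noetherian _
    obtain ⟨s, hs, hspan⟩ := Submodule.FG.exists_span_set_encard_eq_spanFinrank hfg
    have hsfin : s.Finite := Set.finite_of_encard_eq_coe hs
    have hlift : ∀ y : s, ∃ z : M0 A (Fin r), Ideal.Quotient.mk _ z.1 = y.1 := by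
      intro y
      have hy : y.1 ∈ maximalIdeal B := hspan ▸ Submodule.subset_span y.2
      rw [hmax, Ideal.mem_map_iff_of_surjective _ Ideal.Quotient.mk_surjective] at hy
      obtain ⟨z, hz, hz'⟩ := hy
      exact ⟨⟨z, hz⟩, hz'⟩
    choose z hz using hlift
    obtain ⟨φ, hsmul, hker, hsurj⟩ := exists_readOff d hd c hc
    let W := Submodule.span A (Set.range cb)
    have htop : Submodule.span A (Set.range fun y => φ (z y)) = ⊤ := by
      rw [eq_top_iff]
      rintro w -
      obtain ⟨f, rfl⟩ := hsurj w
      haveI := hsfin.fintype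
      have hf : Ideal.Quotient.mk _ f.1 ∈ Ideal.span (Set.range fun y : s => (y : B)) := by
        rw [Subtype.range_coe]
        show _ ∈ Submodule.span B s
        rw [hspan]
        exact hmax ▸ Ideal.mem_map_of_mem _ f.2
      obtain ⟨g, hg⟩ := (Ideal.mem_span_range_iff_exists_fun).1 hf
      choose g' hg' using fun y => Ideal.Quotient.mk_surjective (g y)
      have h0 : φ (f - ∑ y, g' y • z y) = 0 := by
        refine hker _ ?_
        rw [← Ideal.Quotient.eq_zero_iff_mem]
        simp only [AddSubgroupClass.coe_sub, AddSubmonoidClass.coe_finsetSum, SetLike.val_smul, smul_eq_mul,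
          map_sub, map_sum, map_mul, hg', hz]
        rw [← hg, sub_self]
      rw [map_sub, sub_eq_zero] at h0
      rw [h0, map_sum]
      refine sum_mem fun y _ => ?_
      rw [hsmul]
      exact Submodule.smul_mem _ _ (Submodule.subset_span ⟨y, rfl⟩)
    haveI := hsfin.fintype
    have hcard : Fintype.card s = n := by
      rw [← Nat.card_eq_fintype_card, Nat.card_coe_set_eq, Set.ncard_def, hs, hgen]
      rfl
    let V := CotangentSpace A ⧸ Submodule.span (ResidueField A) (Set.range cb : Set (CotangentSpace A))
    let ψ : ((maximalIdeal A).Cotangent ⧸ W) × (Fin r → ResidueField A) →ₗ[A] V × (Fin r → ResidueField A) :=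
      (Submodule.liftQ W ((Submodule.span (ResidueField A) (Set.range cb : Set (CotangentSpace A))).mkQ.restrictScalars A)
        (fun x hx => by
          change x ∈ Submodule.span A (Set.range cb) at hx
          rw [← hrest] at hx
          rw [LinearMap.mem_ker]
          exact (Submodule.Quotient.mk_eq_zero _).2 hx)).prodMap LinearMap.id
    have hψ : Function.Surjective ψ := by
      rintro ⟨a, b⟩
      obtain ⟨a, rfl⟩ := Submodule.mkQ_surjective _ a
      exact ⟨(W.mkQ a, b), rfl⟩
    have htop' : Submodule.span (ResidueField A) (Set.range fun y => ψ (φ (z y))) = ⊤ := by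
      apply Submodule.restrictScalars_injective A
      rw [Submodule.restrictScalars_span A (ResidueField A) IsLocalRing.residue_surjective,
        Submodule.restrictScalars_top, ← LinearMap.range_eq_top.2 hψ, ← Submodule.map_top, ← htop,
        Submodule.map_span, ← Set.range_comp]
      rfl
    have hle : Module.finrank (ResidueField A) (V × (Fin r → ResidueField A)) ≤ n := by
      rw [← hcard, ← finrank_top, ← htop']
      exact finrank_range_le_card _
    rw [Module.finrank_prod, Module.finrank_fintype_fun_eq_card, Fintype.card_fin] at hle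
    change r ≤ Module.finrank _ (Submodule.span (ResidueField A) (Set.range cb : Set (CotangentSpace A)))
    have hrk' : Module.finrank (ResidueField A) V +
        Module.finrank (ResidueField A) (Submodule.span (ResidueField A) (Set.range cb : Set (CotangentSpace A))) = n := hrk
    omega
  · intro hind
    have hsp : Module.finrank (ResidueField A) (Submodule.span (ResidueField A) (Set.range cb : Set (CotangentSpace A))) = r :=
      (finrank_span_eq_card hind).trans (Fintype.card_fin r)
    let bq := Module.finBasis (ResidueField A) (CotangentSpace A ⧸ Submodule.span (ResidueField A) (Set.range cb : Set (CotangentSpace A)))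
    choose q hq using fun j => Submodule.mkQ_surjective _ (bq j)
    choose a ha using fun j => (maximalIdeal A).toCotangent_surjective (q j)
    have hS : maximalIdeal A ≤ Ideal.span (Set.range fun j => (a j).1) ⊔ Ideal.span (Set.range fun i => c i 0) ⊔
        maximalIdeal A ^ 2 := by
      intro x hx
      have h1 : (maximalIdeal A).toCotangent ⟨x, hx⟩ ∈
          Submodule.span A (Set.range fun j => (maximalIdeal A).toCotangent (a j)) ⊔ Submodule.span A (Set.range cb) := by
        have e : Submodule.span (ResidueField A) (Set.range fun j => (maximalIdeal A).toCotangent (a j) : Set (CotangentSpace A)) ⊔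
            Submodule.span (ResidueField A) (Set.range cb) = ⊤ := by
          rw [sup_comm, ← Submodule.map_mkQ_eq_top, eq_top_iff, ← bq.span_eq, Submodule.map_span,
            ← Set.range_comp]
          refine Submodule.span_mono ?_
          rintro _ ⟨j, rfl⟩
          exact ⟨j, by simp [ha, hq]⟩
        have := congrArg (Submodule.restrictScalars A) e
        rw [Submodule.restrictScalars_sup, Submodule.restrictScalars_top,
          Submodule.restrictScalars_span A (ResidueField A) IsLocalRing.residue_surjective,
          Submodule.restrictScalars_span A (ResidueField A) IsLocalRing.residue_surjective] at this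
        exact this ▸ Submodule.mem_top
      rw [← Submodule.span_union, Set.union_comm] at h1
      have h2 : (maximalIdeal A).toCotangent ⟨x, hx⟩ ∈ Submodule.map (maximalIdeal A).toCotangent
          (Submodule.span A (Set.range a ∪ Set.range fun i => (⟨c i 0, hc i 0⟩ : maximalIdeal A))) := by
        rw [Submodule.map_span, Set.image_union, ← Set.range_comp, ← Set.range_comp, Set.union_comm]
        exact h1
      obtain ⟨y, hy, hxy⟩ := h2
      rw [Ideal.toCotangent_eq] at hxy
      have hy' : (y : A) ∈ Ideal.span (Set.range fun j => (a j).1) ⊔ Ideal.span (Set.range fun i => c i 0) := by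
        have h3 := Submodule.mem_map_of_mem (f := (maximalIdeal A).subtype) hy
        rw [Submodule.map_span, Set.image_union, ← Set.range_comp, ← Set.range_comp, Submodule.span_union] at h3
        exact h3
      rw [show x = (y : A) - (y - x) by ring]
      exact sub_mem (Ideal.mem_sup_left hy') (Ideal.mem_sup_right hxy)
    have hM := maximalIdeal_le_span hd hc _ hS
    have hM2 := Ideal.map_mono (f := Ideal.Quotient.mk (Ideal.span (Set.range (monicF d c)))) hM
    rw [Ideal.map_sup, Ideal.map_sup, Ideal.map_quotient_self, sup_bot_eq, Ideal.map_pow, Ideal.map_span, ← hmax, sq] at hM2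
    rw [← smul_eq_mul] at hM2
    have hM3 := Submodule.le_of_le_smul_of_le_jacobson_bot (IsNoetherian.noetherian _)
      (IsLocalRing.maximalIdeal_le_jacobson ⊥) hM2
    refine IsRegularLocalRing.of_spanFinrank_maximalIdeal_le B ?_
    rw [hdim, ← hA]
    have heq : maximalIdeal B = Ideal.span (Ideal.Quotient.mk (Ideal.span (Set.range (monicF d c))) ''
        ((C : A → MvPolynomial (Fin r) A) '' (Set.range fun j => (a j).1) ∪ Set.range X)) := by
      refine le_antisymm hM3 (Ideal.span_le.2 ?_)
      rintro _ ⟨f, hf, rfl⟩
      rw [SetLike.mem_coe, hmax]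
      refine Ideal.mem_map_of_mem _ ?_
      rw [mem_M0]
      rcases hf with ⟨_, ⟨j, rfl⟩, rfl⟩ | ⟨i, rfl⟩
      · rw [constantCoeff_C]; exact (a j).2
      · rw [constantCoeff_X]; exact zero_mem _
    rw [heq]
    have h4 := Submodule.spanFinrank_span_le_ncard_of_finite (R := B)
      (((Set.finite_range (fun j => (a j).1)).image (C : A → MvPolynomial (Fin r) A) |>.union (Set.finite_range (X : Fin r → MvPolynomial (Fin r) A))).image
        (Ideal.Quotient.mk (Ideal.span (Set.range (monicF d c)))))
    refine le_trans (Nat.cast_le.2 h4) (Nat.cast_le.2 ?_)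
    refine le_trans (Set.ncard_image_le (Set.toFinite _)) (le_trans (Set.ncard_union_le _ _) ?_)
    rw [← Set.range_comp]
    have k1 : ∀ {α : Type u} {m : ℕ} (f : Fin m → α), (Set.range f).ncard ≤ m := fun {α m} f => by
      rw [← Set.image_univ]
      exact le_trans (Set.ncard_image_le (Set.toFinite _)) (by simp [Set.ncard_univ])
    refine le_trans (Nat.add_le_add (k1 _) (k1 _)) ?_
    omega

end Groth.Agent.PPoly4
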