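import Groth.Agent.PPoly4.PRoot
import Groth.Agent.PPoly4.CotReg
import Groth.Agent.CoeffField.Smooth
import Groth.Agent.EGA41Lib.IntDim
import Groth.Agent.RegLoc6.Basic
import Groth.Agent.SmoothDim.Basic

/-!
# Regularity of quotients by `p`-polynomials
-/

set_option autoImplicit false
set_option linter.style.haveILetI false

universe u v

open IsLocalRing MvPolynomial TensorProduct

namespace Groth.Agent.PPoly4

attribute [local instance] Ideal.Quotient.field

variable {A : Type u} [CommRing A] (p : ℕ) [hp : Fact p.Prime]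

/-- The height of a maximal ideal of a polynomial ring over a local ring lying over the closed point. -/
theorem height_maximal_polynomial [IsLocalRing A] [IsNoetherianRing A] {r : ℕ} (M : Ideal (MvPolynomial (Fin r) A))
    [M.IsMaximal] (hm : (maximalIdeal A).map C ≤ M) :
    M.height = (maximalIdeal A).height + r := by
  haveI : M.LiesOver (maximalIdeal A) := ⟨(IsLocalRing.maximalIdeal.isMaximal A).eq_of_le
    (Ideal.IsPrime.ne_top inferInstance) (Ideal.map_le_iff_le_comap.1 hm)⟩
  rw [Ideal.height_eq_height_add_of_liesOver_of_hasGoingDown (maximalIdeal A) M]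
  congr 1
  let e : MvPolynomial (Fin r) (ResidueField A) ≃+*
      (MvPolynomial (Fin r) A ⧸ (maximalIdeal A).map (algebraMap A (MvPolynomial (Fin r) A))) :=
    (quotientEquivQuotientMvPolynomial (maximalIdeal A)).toRingEquiv
  set M' := M.map (Ideal.Quotient.mk ((maximalIdeal A).map (algebraMap A (MvPolynomial (Fin r) A))))
  haveI : M'.IsMaximal := Ideal.IsMaximal.map_of_surjective_of_ker_le Ideal.Quotient.mk_surjective
    (by rw [Ideal.mk_ker]; exact hm)
  haveI : (M'.map e.symm).IsMaximal := Ideal.map_isMaximal_of_equiv e.symm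
  rw [← e.symm.height_map M']
  show Ideal.height (⟨M'.map e.symm, inferInstance⟩ : PrimeSpectrum (MvPolynomial (Fin r) (ResidueField A))).asIdeal = _
  rw [PrimeSpectrum.height_eq_orderHeight, SmoothDim.height_maximal_mvPolynomial (ResidueField A) r _ ‹_›]

theorem algebraMap_pF_injective [IsDomain A] {ι : Type v} (G : ι → Polynomial A) (hG : ∀ i, (G i).degree < p)
    (f : ι → A) : Function.Injective (algebraMap A (MvPolynomial ι A ⧸ Ideal.span (Set.range (pF p G f)))) := by
  let Ω := AlgebraicClosure (FractionRing A)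
  let g : A →+* Ω := (algebraMap (FractionRing A) Ω).comp (algebraMap A (FractionRing A))
  have hg : Function.Injective g :=
    (algebraMap (FractionRing A) Ω).injective.comp (IsFractionRing.injective A (FractionRing A))
  have hroot : ∀ i, ∃ t : Ω,
      ((Polynomial.X ^ p + (Polynomial.C (p : A) * G i - Polynomial.C (f i))).map g).eval t = 0 := by
    intro i
    refine IsAlgClosed.exists_root _ ?_
    rw [(monic_poly p G f hG i).degree_map]
    intro h
    have hlt : (Polynomial.C (p : A) * G i - Polynomial.C (f i)).degree < (p : WithBot ℕ) := by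
      refine lt_of_le_of_lt (Polynomial.degree_sub_le _ _) (max_lt ?_ ?_)
      · rw [← Polynomial.smul_eq_C_mul]
        exact lt_of_le_of_lt (Polynomial.degree_smul_le _ _) (hG i)
      · exact lt_of_le_of_lt Polynomial.degree_C_le (by exact_mod_cast hp.out.pos)
    rw [Polynomial.degree_add_eq_left_of_degree_lt (by rw [Polynomial.degree_X_pow]; exact hlt),
      Polynomial.degree_X_pow] at h
    exact hp.out.ne_zero (by exact_mod_cast h)
  choose t ht using hroot
  let φ := MvPolynomial.eval₂Hom g t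
  have hker : Ideal.span (Set.range (pF p G f)) ≤ RingHom.ker φ := by
    rw [Ideal.span_le]
    rintro _ ⟨i, rfl⟩
    rw [SetLike.mem_coe, RingHom.mem_ker, ← aeval_poly p G f φ i,
      show φ.comp C = g from RingHom.ext fun a => eval₂Hom_C _ _ a, show φ (X i) = t i from eval₂Hom_X' _ _ _,
      ← Polynomial.eval_map]
    exact ht i
  intro a b hab
  apply hg
  change Ideal.Quotient.mk (Ideal.span (Set.range (pF p G f))) (C a) = Ideal.Quotient.mk _ (C b) at hab
  have h := congrArg (Ideal.Quotient.lift _ φ hker) hab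
  rwa [Ideal.Quotient.lift_mk, Ideal.Quotient.lift_mk, show φ (C a) = g a from MvPolynomial.eval₂Hom_C _ _ _,
    show φ (C b) = g b from MvPolynomial.eval₂Hom_C _ _ _] at h

/-- A derivation into the cotangent space at a maximal ideal with residue characteristic `p` and `p` in the square. -/
theorem exists_derivation_cotangent {P : Type u} [CommRing P] (M : Ideal P) [M.IsMaximal] (hpM : (p : P) ∈ M ^ 2) :
    ∃ E : Derivation ℤ P M.Cotangent, ∀ x : M, E x = M.toCotangent x := by
  have hpL : (p : P ⧸ M) = 0 := by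
    rw [← map_natCast (Ideal.Quotient.mk M), Ideal.Quotient.eq_zero_iff_mem]
    exact Ideal.pow_le_self two_ne_zero hpM
  have hpQ : (p : P ⧸ M ^ 2) = 0 := by
    rw [← map_natCast (Ideal.Quotient.mk (M ^ 2)), Ideal.Quotient.eq_zero_iff_mem]
    exact hpM
  haveI : Nontrivial (P ⧸ M ^ 2) := Ideal.Quotient.nontrivial_iff.2 fun h =>
    ‹M.IsMaximal›.ne_top (eq_top_iff.2 (h.ge.trans (Ideal.pow_le_self two_ne_zero)))
  haveI : CharP (P ⧸ M) p := (CharP.charP_iff_prime_eq_zero hp.out).2 hpL
  haveI : CharP (P ⧸ M ^ 2) p := (CharP.charP_iff_prime_eq_zero hp.out).2 hpQ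
  letI : Algebra (ZMod p) (P ⧸ M) := ZMod.algebra _ p
  letI : Algebra (ZMod p) (P ⧸ M ^ 2) := ZMod.algebra _ p
  haveI := CoeffField.formallySmooth_of_perfectField (ZMod p) (P ⧸ M)
  let π : P ⧸ M ^ 2 →ₐ[ZMod p] P ⧸ M :=
    { Ideal.Quotient.factor (Ideal.pow_le_self two_ne_zero) with
      commutes' := fun q => RingHom.congr_fun (Subsingleton.elim
        ((Ideal.Quotient.factor (Ideal.pow_le_self two_ne_zero)).comp (algebraMap (ZMod p) (P ⧸ M ^ 2)))
        (algebraMap (ZMod p) (P ⧸ M))) q }
  have hπ : Function.Surjective π := fun y => by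
    obtain ⟨y, rfl⟩ := Ideal.Quotient.mk_surjective y
    exact ⟨Ideal.Quotient.mk _ y, rfl⟩
  have hnil : IsNilpotent (RingHom.ker (π : P ⧸ M ^ 2 →+* P ⧸ M)) := by
    refine ⟨2, ?_⟩
    have : RingHom.ker (π : P ⧸ M ^ 2 →+* P ⧸ M) = M.map (Ideal.Quotient.mk (M ^ 2)) :=
      Ideal.Quotient.factor_ker (Ideal.pow_le_self two_ne_zero)
    rw [this, ← Ideal.map_pow, Ideal.map_quotient_self]
    rfl
  let s := Algebra.FormallySmooth.liftOfSurjective (AlgHom.id (ZMod p) (P ⧸ M)) π hπ hnil
  have hs : ∀ y, π (s y) = y := fun y =>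
    AlgHom.congr_fun (Algebra.FormallySmooth.comp_liftOfSurjective (AlgHom.id (ZMod p) (P ⧸ M)) π hπ hnil) y
  choose z hz using fun x : P => Ideal.Quotient.mk_surjective (s (Ideal.Quotient.mk M x))
  have hzM : ∀ x, x - z x ∈ M := fun x => by
    rw [← Ideal.Quotient.eq]
    have h := hs (Ideal.Quotient.mk M x)
    rw [← hz x] at h
    exact h.symm
  let E₀ : P →+ M.Cotangent := AddMonoidHom.mk' (fun x => M.toCotangent ⟨x - z x, hzM x⟩) fun x y => by
    rw [← map_add, Ideal.toCotangent_eq]
    show x + y - z (x + y) - ((x - z x) + (y - z y)) ∈ M ^ 2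
    rw [show x + y - z (x + y) - ((x - z x) + (y - z y)) = z x + z y - z (x + y) by ring,
      ← Ideal.Quotient.eq_zero_iff_mem, map_sub, map_add, hz, hz, hz, map_add, map_add, sub_self]
  refine ⟨Derivation.mk' E₀.toIntLinearMap fun x y => ?_, fun x => ?_⟩
  · show M.toCotangent ⟨x * y - z (x * y), hzM _⟩ =
      x • M.toCotangent ⟨y - z y, hzM y⟩ + y • M.toCotangent ⟨x - z x, hzM x⟩
    rw [← map_smul, ← map_smul, ← map_add, Ideal.toCotangent_eq]
    show x * y - z (x * y) - (x * (y - z y) + y * (x - z x)) ∈ M ^ 2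
    rw [show x * y - z (x * y) - (x * (y - z y) + y * (x - z x)) =
      (z x * z y - z (x * y)) - (x - z x) * (y - z y) by ring]
    refine sub_mem ?_ (by rw [sq]; exact Ideal.mul_mem_mul (hzM x) (hzM y))
    rw [← Ideal.Quotient.eq_zero_iff_mem, map_sub, map_mul, hz, hz, hz, map_mul, map_mul, sub_self]
  · show M.toCotangent ⟨(x : P) - z x, hzM x⟩ = M.toCotangent x
    rw [Ideal.toCotangent_eq]
    show (x : P) - z x - x ∈ M ^ 2
    rw [show (x : P) - z x - x = -z x by ring, neg_mem_iff, ← Ideal.Quotient.eq_zero_iff_mem, hz,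
      Ideal.Quotient.eq_zero_iff_mem.2 x.2, map_zero]

section crit

variable [IsLocalRing A] [CharP (ResidueField A) p] {r : ℕ} {ι : Type v} (G : ι → Polynomial A) (f : ι → A)

theorem classes_indep_of_differentials (M : Ideal (MvPolynomial ι A)) [M.IsMaximal]
    (hmC : (maximalIdeal A).map C ≤ M) (e : Fin r → ι) (hF : ∀ i, pF p G f (e i) ∈ M)
    (h : LinearIndependent (ResidueField A)
      (fun i => (1 : ResidueField A) ⊗ₜ[A] KaehlerDifferential.D ℤ A (f (e i)))) :
    LinearIndependent (MvPolynomial ι A ⧸ M) (fun i => M.toCotangent ⟨pF p G f (e i), hF i⟩) := by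
  classical
  let L := MvPolynomial ι A ⧸ M
  have hιm : ∀ a ∈ maximalIdeal A, algebraMap A L a = 0 := fun a ha =>
    Ideal.Quotient.eq_zero_iff_mem.2 (hmC (Ideal.mem_map_of_mem _ ha))
  let κ : ResidueField A →+* L := Ideal.Quotient.lift (maximalIdeal A) (algebraMap A L) hιm
  obtain ⟨g, hg⟩ := LinearMap.exists_leftInverse_of_injective (Finsupp.linearCombination (ResidueField A)
    (fun i => (1 : ResidueField A) ⊗ₜ[A] KaehlerDifferential.D ℤ A (f (e i)))) (LinearMap.ker_eq_bot.2 h)
  have hg' : ∀ j, g ((1 : ResidueField A) ⊗ₜ[A] KaehlerDifferential.D ℤ A (f (e j))) = Finsupp.single j 1 :=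
    fun j => by simpa using LinearMap.congr_fun hg (Finsupp.single j 1)
  rw [Fintype.linearIndependent_iff]
  intro l hl k
  choose lam hlam using fun i => Ideal.Quotient.mk_surjective (l i)
  have hmem : ∑ i, lam i * pF p G f (e i) ∈ M ^ 2 := by
    have h1 : M.toCotangent (∑ i, lam i • ⟨pF p G f (e i), hF i⟩) = 0 := by
      rw [map_sum, ← hl]
      refine Finset.sum_congr rfl fun i _ => ?_
      rw [LinearMap.map_smul, ← hlam i]
      exact (IsScalarTower.algebraMap_smul (MvPolynomial ι A ⧸ M) (lam i) _).symm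
    rw [Ideal.toCotangent_eq_zero] at h1
    simpa using h1
  let Dk : A →+ L :=
    AddMonoidHom.mk' (fun a => κ (g ((1 : ResidueField A) ⊗ₜ[A] KaehlerDifferential.D ℤ A a) k)) fun a b => by
      simp only [map_add, tmul_add, Finsupp.add_apply]
  have hDk : ∀ a b, Dk (a * b) = algebraMap A L a * Dk b + algebraMap A L b * Dk a := by
    intro a b
    have e1 : ∀ (c : A) (w : Ω[A⁄ℤ]), (1 : ResidueField A) ⊗ₜ[A] (c • w) = residue A c • ((1 : ResidueField A) ⊗ₜ[A] w) :=
      fun c w => by
        rw [tmul_smul, ← algebraMap_smul (ResidueField A) c]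
        rfl
    show κ _ = _ * κ _ + _ * κ _
    rw [Derivation.leibniz, tmul_add, e1, e1, map_add, map_smul, map_smul, Finsupp.add_apply, Finsupp.smul_apply,
      Finsupp.smul_apply, smul_eq_mul, smul_eq_mul, map_add, map_mul, map_mul]
    rfl
  let φA : A →+* TrivSqZeroExt L L :=
    { toFun := fun a => TrivSqZeroExt.inl (algebraMap A L a) + TrivSqZeroExt.inr (Dk a)
      map_one' := by
        have : Dk 1 = 0 := by
          have h1 := hDk 1 1
          simp only [mul_one, map_one, one_mul] at h1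
          exact left_eq_add.1 h1
        rw [map_one, this]
        simp
      map_mul' := fun a b => by
        refine TrivSqZeroExt.ext ?_ ?_
        · simp
        · simp [hDk, mul_comm]
      map_zero' := by simp
      map_add' := fun a b => by
        refine TrivSqZeroExt.ext ?_ ?_
        · simp only [TrivSqZeroExt.fst_add, TrivSqZeroExt.fst_inl, TrivSqZeroExt.fst_inr, map_add]; abel
        · simp only [TrivSqZeroExt.snd_add, TrivSqZeroExt.snd_inl, TrivSqZeroExt.snd_inr, map_add]; abel }
  let Φ : MvPolynomial ι A →+* TrivSqZeroExt L L :=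
    eval₂Hom φA (fun i => (TrivSqZeroExt.inl (Ideal.Quotient.mk M (X i) : L) : TrivSqZeroExt L L))
  have hfst : ∀ x, (Φ x).fst = Ideal.Quotient.mk M x := by
    intro x
    induction x using MvPolynomial.induction_on with
    | C a => simp [Φ, φA]; rfl
    | add x y hx hy => simp [map_add, hx, hy]
    | mul_X x i hx =>
        rw [map_mul, TrivSqZeroExt.fst_mul, hx, map_mul]
        simp [Φ]
  have hsq : ∀ x ∈ M ^ 2, (Φ x).snd = 0 := by
    intro x hx
    rw [sq] at hx
    refine Submodule.mul_induction_on hx (fun a ha b hb => ?_) (fun x y hx hy => ?_)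
    · rw [map_mul, TrivSqZeroExt.snd_mul, hfst, hfst, Ideal.Quotient.eq_zero_iff_mem.2 ha,
        Ideal.Quotient.eq_zero_iff_mem.2 hb]
      simp
    · rw [map_add, TrivSqZeroExt.snd_add, hx, hy, add_zero]
  have hp0 : (p : TrivSqZeroExt L L) = 0 := by
    rw [← map_natCast (TrivSqZeroExt.inlHom L L), ← map_natCast (algebraMap A L),
      hιm _ (natCast_mem_maximalIdeal p), map_zero]
  have hΦF : ∀ j, (Φ (pF p G f (e j))).snd = if j = k then -1 else 0 := by
    intro j
    rw [pF, map_sub, map_add, map_mul, map_pow, map_natCast, hp0, zero_mul, add_zero, TrivSqZeroExt.snd_sub]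
    have e2 : Φ (X (e j)) = TrivSqZeroExt.inl (Ideal.Quotient.mk M (X (e j))) := eval₂Hom_X' _ _ _
    have e3 : Φ (C (f (e j))) = φA (f (e j)) := eval₂Hom_C _ _ _
    rw [e2, show (TrivSqZeroExt.inl (Ideal.Quotient.mk M (X (e j)) : L) : TrivSqZeroExt L L) ^ p =
      TrivSqZeroExt.inl ((Ideal.Quotient.mk M (X (e j)) : L) ^ p) from (map_pow (TrivSqZeroExt.inlHom L L) _ _).symm,
      TrivSqZeroExt.snd_inl, e3]
    show (0 : L) - (TrivSqZeroExt.inl (algebraMap A L (f (e j))) + TrivSqZeroExt.inr (Dk (f (e j))) : TrivSqZeroExt L L).snd = _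
    rw [TrivSqZeroExt.snd_add, TrivSqZeroExt.snd_inl, TrivSqZeroExt.snd_inr, zero_add, zero_sub]
    show -κ (g ((1 : ResidueField A) ⊗ₜ[A] KaehlerDifferential.D ℤ A (f (e j))) k) = _
    rw [hg', Finsupp.single_apply]
    split_ifs <;> simp
  have h0 := hsq _ hmem
  rw [map_sum, TrivSqZeroExt.snd_sum, Finset.sum_eq_single k] at h0
  · rw [map_mul, TrivSqZeroExt.snd_mul, hfst, hfst, hΦF, if_pos rfl,
      Ideal.Quotient.eq_zero_iff_mem.2 (hF k)] at h0
    simpa [hlam] using h0
  · intro i _ hi
    rw [map_mul, TrivSqZeroExt.snd_mul, hfst, hfst, hΦF, if_neg hi, Ideal.Quotient.eq_zero_iff_mem.2 (hF i)]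
    simp
  · simp

theorem differentials_indep_of_classes (M : Ideal (MvPolynomial ι A)) [M.IsMaximal]
    (hmC : (maximalIdeal A).map C ≤ M) (e : Fin r → ι) (hF : ∀ i, pF p G f (e i) ∈ M)
    (hpm : (p : A) ∈ maximalIdeal A ^ 2)
    (h : LinearIndependent (MvPolynomial ι A ⧸ M) (fun i => M.toCotangent ⟨pF p G f (e i), hF i⟩)) :
    LinearIndependent (ResidueField A)
      (fun i => (1 : ResidueField A) ⊗ₜ[A] KaehlerDifferential.D ℤ A (f (e i))) := by
  classical
  let P := MvPolynomial ι A
  let L := P ⧸ M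
  have hpM : (p : P) ∈ M ^ 2 := by
    rw [← map_natCast (C : A →+* P)]
    exact Ideal.pow_right_mono hmC 2 (by rw [← Ideal.map_pow]; exact Ideal.mem_map_of_mem _ hpm)
  obtain ⟨E, hE⟩ := exists_derivation_cotangent p M hpM
  have hιm : ∀ a ∈ maximalIdeal A, algebraMap A L a = 0 := fun a ha =>
    Ideal.Quotient.eq_zero_iff_mem.2 (hmC (Ideal.mem_map_of_mem _ ha))
  let κ : ResidueField A →+* L := Ideal.Quotient.lift (maximalIdeal A) (algebraMap A L) hιm
  have hpv : ∀ v : M.Cotangent, (p : P) • v = 0 := by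
    intro v
    rw [← IsScalarTower.algebraMap_smul L (p : P) v, Ideal.Quotient.algebraMap_eq,
      Ideal.Quotient.eq_zero_iff_mem.2 (Ideal.pow_le_self two_ne_zero hpM)]
    exact zero_smul (MvPolynomial ι A ⧸ M) v
  have hEf : ∀ i, E (C (f (e i))) = -M.toCotangent ⟨pF p G f (e i), hF i⟩ := by
    intro i
    have h1 : E (X (e i) ^ p + (p : MvPolynomial ι A) * Polynomial.aeval (X (e i)) (G (e i)) - C (f (e i))) =
        M.toCotangent ⟨pF p G f (e i), hF i⟩ := hE ⟨pF p G f (e i), hF i⟩
    have hEp : E (p : P) = 0 := E.map_natCast p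
    rw [map_sub, map_add, Derivation.leibniz_pow, Derivation.leibniz, hEp, smul_zero, add_zero, hpv,
      add_zero, ← Nat.cast_smul_eq_nsmul P, hpv, zero_sub] at h1
    rw [← neg_neg (E (C (f (e i)))), h1]
  let EA : Derivation ℤ A M.Cotangent := E.compAlgebraMap A
  haveI : IsScalarTower A L M.Cotangent := IsScalarTower.of_algebraMap_smul fun (a : A) (v : M.Cotangent) => by
    rw [IsScalarTower.algebraMap_apply A P L, IsScalarTower.algebraMap_smul (R := P) L, IsScalarTower.algebraMap_smul (R := A) P]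
  haveI : SMulCommClass L A M.Cotangent := ⟨fun l a v => by
    rw [← algebraMap_smul L a, ← algebraMap_smul L a (l • v), smul_smul, smul_smul, mul_comm]⟩
  let Ψ : ResidueField A ⊗[A] Ω[A⁄ℤ] →ₗ[A] M.Cotangent := TensorProduct.lift
    (LinearMap.mk₂ A (fun k w => κ k • EA.liftKaehlerDifferential w)
      (fun k k' w => by rw [map_add, add_smul])
      (fun a k w => by
        rw [Algebra.smul_def, map_mul, mul_smul, ← algebraMap_smul L a]
        rfl)
      (fun k w w' => by rw [map_add, smul_add])
      (fun a k w => by rw [map_smul, smul_comm]))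
  rw [Fintype.linearIndependent_iff]
  intro l hl k
  have h2 := congrArg Ψ hl
  rw [map_zero, map_sum] at h2
  have h3 : ∀ i, Ψ (l i • ((1 : ResidueField A) ⊗ₜ[A] KaehlerDifferential.D ℤ A (f (e i)))) =
      -(κ (l i) • M.toCotangent ⟨pF p G f (e i), hF i⟩) := by
    intro i
    rw [TensorProduct.smul_tmul', smul_eq_mul, mul_one]
    show κ (l i) • EA.liftKaehlerDifferential (KaehlerDifferential.D ℤ A (f (e i))) = _
    rw [Derivation.liftKaehlerDifferential_comp_D, ← smul_neg, ← hEf]
    rfl
  rw [Finset.sum_congr rfl fun i _ => h3 i, Finset.sum_neg_distrib, neg_eq_zero] at h2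
  exact (map_eq_zero_iff κ κ.injective).1 (Fintype.linearIndependent_iff.1 h _ h2 k)

end crit

/-- The quotient of `A[T]` by `p`-polynomials is regular iff the differentials of the `f_i` are independent. -/
theorem pF_regular_iff [IsRegularLocalRing A] [CharP (ResidueField A) p] {ι : Type v} {r : ℕ} (e : Fin r ≃ ι)
    (G : ι → Polynomial A) (hG : ∀ i, (G i).degree < p) (f : ι → A) (hpm : (p : A) ∈ maximalIdeal A ^ 2) :
    IsRegularRing (MvPolynomial ι A ⧸ Ideal.span (Set.range (pF p G f))) ↔
      LinearIndependent (ResidueField A)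
        (fun i => (1 : ResidueField A) ⊗ₜ[A] KaehlerDifferential.D ℤ A (f (e i))) := by
  haveI : IsDomain A := RegLoc6.isDomain_of_isRegularLocalRing A
  haveI : IsRegularRing A := CplFib6.isRegularRing_of_local A
  haveI : Finite ι := Finite.of_equiv _ e
  set P := MvPolynomial ι A
  haveI := ker_isMaximal p G f
  set M := RingHom.ker (Θ p f)
  have hJ := J_le_ker p G f
  have hF : ∀ i, pF p G f (e i) ∈ M := fun i => hJ (Ideal.mem_sup_right (Ideal.subset_span ⟨_, rfl⟩))
  have hmC : (maximalIdeal A).map C ≤ M := le_trans le_sup_left hJ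
  haveI := isIntegral_pF p G f hG
  obtain ⟨hloc, hmax⟩ := isLocalRing_pF p G hG f
  haveI := hloc
  have hdim0 : ringKrullDim (P ⧸ Ideal.span (Set.range (pF p G f))) = ringKrullDim A :=
    EGA41Lib.ringKrullDim_eq_of_integral (algebraMap_pF_injective p G hG f)
  set n := Module.finrank (ResidueField A) (CotangentSpace A)
  have hA : (n : WithBot ℕ∞) = ringKrullDim A := (IsRegularLocalRing.iff_finrank_cotangentSpace A).1 inferInstance
  have hmh : (maximalIdeal A).height = (n : ℕ∞) := by
    have h := IsLocalRing.maximalIdeal_height_eq_ringKrullDim (R := A)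
    rw [← hA] at h
    exact_mod_cast h
  have hM : M.height = ((n + r : ℕ) : ℕ∞) := by
    let ρ : P ≃+* MvPolynomial (Fin r) A := (renameEquiv A e.symm).toRingEquiv
    haveI : (M.map ρ).IsMaximal := Ideal.map_isMaximal_of_equiv ρ
    rw [← ρ.height_map M, height_maximal_polynomial (M.map ρ) ?_, hmh]
    · norm_cast
    · rw [Ideal.map_le_iff_le_comap]
      intro a ha
      rw [Ideal.mem_comap]
      have h1 : ρ (C a) ∈ M.map ρ := Ideal.mem_map_of_mem _ (hmC (Ideal.mem_map_of_mem _ ha))
      have h2 : ρ (C a) = C a := rename_C _ _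
      rwa [h2] at h1
  have hspan : Ideal.span (Set.range fun i => ((⟨pF p G f (e i), hF i⟩ : M) : P)) =
      Ideal.span (Set.range (pF p G f)) := by
    congr 1
    exact e.surjective.range_comp (pF p G f)
  let ε := Ideal.quotEquivOfEq hspan
  haveI : IsLocalRing (P ⧸ Ideal.span (Set.range fun i => ((⟨pF p G f (e i), hF i⟩ : M) : P))) :=
    ε.symm.isLocalRing
  have hmax' : maximalIdeal (P ⧸ Ideal.span (Set.range fun i => ((⟨pF p G f (e i), hF i⟩ : M) : P))) =
      M.map (Ideal.Quotient.mk _) := by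
    symm
    apply IsLocalRing.eq_maximalIdeal
    refine Ideal.IsMaximal.map_of_surjective_of_ker_le Ideal.Quotient.mk_surjective ?_
    rw [Ideal.mk_ker, hspan]
    exact le_trans le_sup_right hJ
  have key := isRegularLocalRing_quot_iff M (fun i => ⟨pF p G f (e i), hF i⟩) hmax' n
    (by rw [ringKrullDim_eq_of_ringEquiv ε, hdim0, hA]) hM
  constructor
  · intro hR
    haveI := hR
    haveI := IsRegularLocalRing.of_isRegularRing_of_isLocalRing (P ⧸ Ideal.span (Set.range (pF p G f)))
    exact differentials_indep_of_classes p G f M hmC e hF hpm (key.1 (IsRegularLocalRing.of_ringEquiv ε.symm))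
  · intro hind
    haveI := key.2 (classes_indep_of_differentials p G f M hmC e hF hind)
    haveI := IsRegularLocalRing.of_ringEquiv ε
    exact CplFib6.isRegularRing_of_local _

end Groth.Agent.PPoly4
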