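import Groth.Prelude.Def_EGA41
import Mathlib

/-!
# Quotients of polynomial rings over local rings by `p`-polynomials
-/

set_option autoImplicit false
set_option linter.style.haveILetI false

universe u v w

open IsLocalRing MvPolynomial

namespace Groth.Agent.PPoly4

variable {A : Type u} [CommRing A] {ι : Type v}

/-- `X_i ^ p + p * G_i(X_i) - f_i`. -/
noncomputable def pF (p : ℕ) (G : ι → Polynomial A) (f : ι → A) (i : ι) : MvPolynomial ι A :=
  X i ^ p + (p : MvPolynomial ι A) * Polynomial.aeval (X i) (G i) - C (f i)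

theorem exists_pF (p : ℕ) [hp : Fact p.Prime] (c : ι → Fin p → A) (f : ι → A) :
    ∃ G : ι → Polynomial A, (∀ i, (G i).degree < p) ∧ ∀ i,
      pF p G f i = X i ^ p + (p : MvPolynomial ι A) * (Finset.univ.sum fun j : Fin p =>
        if (j : ℕ) = 0 then 0 else C (c i j) * X i ^ (p - (j : ℕ))) - C (f i) := by
  refine ⟨fun i => Finset.univ.sum fun j : Fin p =>
    if (j : ℕ) = 0 then 0 else Polynomial.C (c i j) * Polynomial.X ^ (p - (j : ℕ)), fun i => ?_, fun i => ?_⟩
  · refine lt_of_le_of_lt (Polynomial.degree_sum_le _ _) ((Finset.sup_lt_iff (WithBot.bot_lt_coe _)).2 fun j _ => ?_)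
    split_ifs with hj
    · rw [Polynomial.degree_zero]
      exact WithBot.bot_lt_coe _
    · refine lt_of_le_of_lt (Polynomial.degree_C_mul_X_pow_le _ _) ?_
      have := j.2
      have h0 := hp.out.pos
      exact_mod_cast (by omega : p - (j : ℕ) < p)
  · simp only [pF, map_sum]
    congr 2
    congr 1
    refine Finset.sum_congr rfl fun j _ => ?_
    split_ifs <;> simp

variable (p : ℕ) [hp : Fact p.Prime] (G : ι → Polynomial A) (hG : ∀ i, (G i).degree < p) (f : ι → A)

theorem monic_poly (hG : ∀ i, (G i).degree < p) (i : ι) :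
    (Polynomial.X ^ p + (Polynomial.C (p : A) * G i - Polynomial.C (f i))).Monic := by
  refine Polynomial.monic_X_pow_add (lt_of_le_of_lt (Polynomial.degree_sub_le _ _) (max_lt ?_ ?_))
  · rw [← Polynomial.smul_eq_C_mul]
    exact lt_of_le_of_lt (Polynomial.degree_smul_le _ _) (hG i)
  · exact lt_of_le_of_lt Polynomial.degree_C_le (by exact_mod_cast hp.out.pos)

omit hp in
theorem aeval_poly {B : Type w} [CommRing B] (φ : MvPolynomial ι A →+* B) (i : ι) :
    Polynomial.eval₂ (φ.comp C) (φ (X i)) (Polynomial.X ^ p + (Polynomial.C (p : A) * G i - Polynomial.C (f i))) =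
      φ (pF p G f i) := by
  rw [← Polynomial.hom_eval₂, ← MvPolynomial.algebraMap_eq, ← Polynomial.aeval_def]
  congr 1
  simp [pF]
  ring

include hp in
theorem isIntegral_pF (hG : ∀ i, (G i).degree < p) :
    Algebra.IsIntegral A (MvPolynomial ι A ⧸ Ideal.span (Set.range (pF p G f))) := by
  constructor
  intro x
  obtain ⟨x, rfl⟩ := Ideal.Quotient.mk_surjective x
  induction x using MvPolynomial.induction_on with
  | C a => exact isIntegral_algebraMap
  | add f g hf hg => rw [map_add]; exact hf.add hg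
  | mul_X g i hg =>
      rw [map_mul]
      refine hg.mul ⟨_, monic_poly p G f hG i, ?_⟩
      show Polynomial.eval₂ ((Ideal.Quotient.mk (Ideal.span (Set.range (pF p G f)))).comp C) (Ideal.Quotient.mk _ (X i)) _ = 0
      rw [aeval_poly]
      exact Ideal.Quotient.eq_zero_iff_mem.2 (Ideal.subset_span ⟨i, rfl⟩)

variable [IsLocalRing A] [CharP (ResidueField A) p]

/-- `m[X] + (F)`. -/
noncomputable def J : Ideal (MvPolynomial ι A) :=
  (maximalIdeal A).map C ⊔ Ideal.span (Set.range (pF p G f))

/-- The map to an algebraic closure of the residue field, sending `X_i` to a `p`-th root of `f_i`. -/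
noncomputable def Θ : MvPolynomial ι A →+* AlgebraicClosure (ResidueField A) :=
  eval₂Hom ((algebraMap (ResidueField A) (AlgebraicClosure (ResidueField A))).comp (residue A))
    (fun i => (IsAlgClosed.exists_pow_nat_eq
      (algebraMap (ResidueField A) (AlgebraicClosure (ResidueField A)) (residue A (f i))) hp.out.pos).choose)

theorem Θ_C (a : A) :
    Θ p f (C a) = algebraMap (ResidueField A) (AlgebraicClosure (ResidueField A)) (residue A a) := by
  simp [Θ]

theorem Θ_X_pow (i : ι) :
    Θ p f (X i) ^ p = algebraMap (ResidueField A) (AlgebraicClosure (ResidueField A)) (residue A (f i)) := by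
  simp only [Θ, eval₂Hom_X']
  exact (IsAlgClosed.exists_pow_nat_eq _ hp.out.pos).choose_spec

theorem natCast_mem_maximalIdeal : (p : A) ∈ maximalIdeal A := by
  rw [← residue_eq_zero_iff, map_natCast]
  exact CharP.cast_eq_zero _ p

theorem J_le_ker : J p G f ≤ RingHom.ker (Θ p f) := by
  refine sup_le (Ideal.map_le_iff_le_comap.2 fun a ha => ?_) (Ideal.span_le.2 ?_)
  · rw [Ideal.mem_comap, RingHom.mem_ker, Θ_C, (residue_eq_zero_iff _).2 ha, map_zero]
  · rintro _ ⟨i, rfl⟩
    have hp0 : (p : AlgebraicClosure (ResidueField A)) = 0 := by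
      rw [← map_natCast (algebraMap (ResidueField A) (AlgebraicClosure (ResidueField A))),
        CharP.cast_eq_zero, map_zero]
    rw [SetLike.mem_coe, RingHom.mem_ker, pF, map_sub, map_add, map_mul, map_pow, map_natCast, Θ_X_pow, Θ_C,
      hp0]
    ring

theorem C_mem_J {a : A} (ha : a ∈ maximalIdeal A) : C a ∈ J p G f :=
  Ideal.mem_sup_left (Ideal.mem_map_of_mem _ ha)

theorem X_pow_sub_mem (i : ι) : X i ^ p - C (f i) ∈ J p G f := by
  have h : X i ^ p - C (f i) = pF p G f i - C (p : A) * Polynomial.aeval (X i) (G i) := by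
    rw [pF, map_natCast]; ring
  rw [h]
  exact sub_mem (Ideal.mem_sup_right (Ideal.subset_span ⟨i, rfl⟩))
    (Ideal.mul_mem_right _ _ (C_mem_J p G f (natCast_mem_maximalIdeal p)))

theorem J_ne_top : J p G f ≠ ⊤ := fun h =>
  RingHom.ker_ne_top (Θ p f) (eq_top_iff.2 (h.ge.trans (J_le_ker p G f)))

theorem exists_pow_sub_mem (x : MvPolynomial ι A) : ∃ a : A, x ^ p - C a ∈ J p G f := by
  haveI : Nontrivial (MvPolynomial ι A ⧸ J p G f) := Ideal.Quotient.nontrivial_iff.2 (J_ne_top p G f)
  have h0 : (p : MvPolynomial ι A ⧸ J p G f) = 0 := by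
    rw [← map_natCast (Ideal.Quotient.mk (J p G f)), Ideal.Quotient.eq_zero_iff_mem, ← map_natCast C]
    exact C_mem_J p G f (natCast_mem_maximalIdeal p)
  haveI : CharP (MvPolynomial ι A ⧸ J p G f) p := (CharP.charP_iff_prime_eq_zero hp.out).2 h0
  suffices ∃ a : A, Ideal.Quotient.mk (J p G f) x ^ p = Ideal.Quotient.mk (J p G f) (C a) by
    obtain ⟨a, ha⟩ := this
    exact ⟨a, Ideal.Quotient.eq.1 (by rw [map_pow]; exact ha)⟩
  induction x using MvPolynomial.induction_on with
  | C a => exact ⟨a ^ p, by rw [← map_pow, ← map_pow]⟩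
  | add g h hg hh =>
      obtain ⟨a, ha⟩ := hg
      obtain ⟨b, hb⟩ := hh
      exact ⟨a + b, by rw [map_add, add_pow_char, ha, hb, map_add, map_add]⟩
  | mul_X g i hg =>
      obtain ⟨a, ha⟩ := hg
      refine ⟨a * f i, ?_⟩
      rw [map_mul, mul_pow, ha, ← map_pow, Ideal.Quotient.eq.2 (X_pow_sub_mem p G f i), ← map_mul, ← map_mul]

theorem eq_ker_of_isMaximal {N : Ideal (MvPolynomial ι A)} (hN : N.IsPrime) (hJ : J p G f ≤ N) :
    N = RingHom.ker (Θ p f) := by
  have key : ∀ (Q : Ideal (MvPolynomial ι A)), Q.IsPrime → J p G f ≤ Q → ∀ x a,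
      x ^ p - C a ∈ J p G f → (x ∈ Q ↔ a ∈ maximalIdeal A) := by
    intro Q hQ hJQ x a hxa
    constructor
    · intro hx
      by_contra ha
      refine hQ.ne_top (Ideal.eq_top_of_isUnit_mem _ ?_ ((IsLocalRing.notMem_maximalIdeal.1 ha).map C))
      have h1 := sub_mem (Ideal.pow_mem_of_mem _ hx p hp.out.pos) (hJQ hxa)
      rwa [sub_sub_cancel] at h1
    · intro ha
      refine hQ.mem_of_pow_mem p ?_
      rw [← sub_add_cancel (x ^ p) (C a)]
      exact add_mem (hJQ hxa) (hJQ (C_mem_J p G f ha))
  ext x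
  obtain ⟨a, ha⟩ := exists_pow_sub_mem p G f x
  rw [key N hN hJ x a ha, key _ (RingHom.ker_isPrime _) (J_le_ker p G f) x a ha]

include G in
theorem ker_isMaximal : (RingHom.ker (Θ p f)).IsMaximal := by
  obtain ⟨N, hN, hle⟩ := Ideal.exists_le_maximal _ (RingHom.ker_ne_top (Θ p f))
  rwa [← eq_ker_of_isMaximal p G f hN.isPrime ((J_le_ker p G f).trans hle)]

include hG in
theorem isLocalRing_pF :
    ∃ _ : IsLocalRing (MvPolynomial ι A ⧸ Ideal.span (Set.range (pF p G f))),
      maximalIdeal (MvPolynomial ι A ⧸ Ideal.span (Set.range (pF p G f))) =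
        (RingHom.ker (Θ p f)).map (Ideal.Quotient.mk _) := by
  haveI := ker_isMaximal p G f
  set M := (RingHom.ker (Θ p f)).map (Ideal.Quotient.mk (Ideal.span (Set.range (pF p G f))))
  have hM : M.IsMaximal := Ideal.IsMaximal.map_of_surjective_of_ker_le Ideal.Quotient.mk_surjective
    (by rw [Ideal.mk_ker]; exact le_trans le_sup_right (J_le_ker p G f))
  haveI := isIntegral_pF p G f hG
  have hu : ∀ N : Ideal (MvPolynomial ι A ⧸ Ideal.span (Set.range (pF p G f))), N.IsMaximal → N = M := by
    intro N hN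
    haveI := hN
    have hm : N.comap (algebraMap A _) = maximalIdeal A :=
      IsLocalRing.eq_maximalIdeal (Ideal.isMaximal_comap_of_isIntegral_of_isMaximal N)
    have hJ : J p G f ≤ N.comap (Ideal.Quotient.mk _) := by
      refine sup_le (Ideal.map_le_iff_le_comap.2 fun a ha => ?_) ?_
      · rw [← hm] at ha
        exact ha
      · conv_lhs => rw [← Ideal.mk_ker (I := Ideal.span (Set.range (pF p G f))), RingHom.ker_eq_comap_bot]
        exact Ideal.comap_mono bot_le
    rw [← Ideal.map_comap_of_surjective _ Ideal.Quotient.mk_surjective N,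
      eq_ker_of_isMaximal p G f (Ideal.IsPrime.comap _) hJ]
  haveI : IsLocalRing (MvPolynomial ι A ⧸ Ideal.span (Set.range (pF p G f))) :=
    IsLocalRing.of_unique_max_ideal ⟨M, hM, hu⟩
  exact ⟨inferInstance, (IsLocalRing.eq_maximalIdeal hM).symm⟩

theorem mk_mem_span_box (x : MvPolynomial ι A) :
    Ideal.Quotient.mk (J p G f) x ∈ Submodule.span A (Set.range fun e : {e : ι →₀ ℕ // ∀ i, e i < p} =>
      Ideal.Quotient.mk (J p G f) (monomial e.1 1)) := by
  classical
  set S := Submodule.span A (Set.range fun e : {e : ι →₀ ℕ // ∀ i, e i < p} =>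
    Ideal.Quotient.mk (J p G f) (monomial e.1 1))
  have hX : ∀ i, ∀ y ∈ S, y * Ideal.Quotient.mk (J p G f) (X i) ∈ S := by
    intro i y hy
    induction hy using Submodule.span_induction with
    | zero => rw [zero_mul]; exact zero_mem _
    | add a b _ _ ha hb => rw [add_mul]; exact add_mem ha hb
    | smul a b _ hb => rw [smul_mul_assoc]; exact Submodule.smul_mem _ _ hb
    | mem y hy =>
      obtain ⟨⟨e, he⟩, rfl⟩ := hy
      rw [← map_mul, X, monomial_mul, mul_one]
      by_cases hei : e i + 1 < p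
      · exact Submodule.subset_span ⟨⟨e + Finsupp.single i 1, fun j => by
          rcases eq_or_ne i j with rfl | hij
          · simpa using hei
          · simpa [hij] using he j⟩, rfl⟩
      · have hei' : e i + 1 = p := by have := he i; omega
        have hsplit : e + Finsupp.single i 1 = e.erase i + Finsupp.single i p := by
          rw [← hei', Finsupp.single_add, ← add_assoc, Finsupp.erase_add_single]
        have h1 : monomial (e + Finsupp.single i 1) (1 : A) = monomial (e.erase i) 1 * X i ^ p := by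
          rw [hsplit, X_pow_eq_monomial, monomial_mul, mul_one]
        rw [h1, map_mul, Ideal.Quotient.eq.2 (X_pow_sub_mem p G f i), mul_comm, ← map_mul, C_mul',
          ← Ideal.Quotient.mkₐ_eq_mk A, map_smul]
        refine Submodule.smul_mem _ _ (Submodule.subset_span ⟨⟨e.erase i, fun j => ?_⟩, rfl⟩)
        rcases eq_or_ne i j with rfl | hij
        · simpa using hp.out.pos
        · simpa [Finsupp.erase_ne hij.symm] using he j
  induction x using MvPolynomial.induction_on with
  | C a =>
      rw [← mul_one (C a), C_mul', ← Ideal.Quotient.mkₐ_eq_mk A, map_smul]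
      refine Submodule.smul_mem _ _ (Submodule.subset_span ⟨⟨0, fun i => ?_⟩, rfl⟩)
      simpa using hp.out.pos
  | add g h hg hh => rw [map_add]; exact add_mem hg hh
  | mul_X g i hg => rw [map_mul]; exact hX i _ hg

theorem ker_eq_J {ι : Type u} (G : ι → Polynomial A) (f : ι → A) (hind : LinearIndependent (↥(frobenius (ResidueField A) p).fieldRange)
    (fun e : {e : ι →₀ ℕ // ∀ i, e i < p} => EGA41.pMonomial (fun i => residue A (f i)) e.1)) :
    RingHom.ker (Θ p f) = J p G f := by
  refine le_antisymm (fun x hx => ?_) (J_le_ker p G f)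
  obtain ⟨c, hc⟩ := Finsupp.mem_span_range_iff_exists_finsupp.1 (mk_mem_span_box p G f x)
  set y := c.sum fun e a => a • monomial e.1 (1 : A)
  have hy : Ideal.Quotient.mk (J p G f) y = Ideal.Quotient.mk (J p G f) x := by
    rw [← hc, ← Ideal.Quotient.mkₐ_eq_mk A, map_finsuppSum]
    simp only [map_smul]
  have hyx := Ideal.Quotient.eq.1 hy
  suffices ∀ e, c e ∈ maximalIdeal A by
    rw [← sub_sub_cancel y x]
    refine sub_mem (sum_mem fun e _ => ?_) hyx
    show (c e) • monomial e.1 (1 : A) ∈ _
    rw [← C_mul']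
    exact Ideal.mul_mem_right _ _ (C_mem_J p G f (this e))
  have h0 : Θ p f y = 0 := by
    have h := J_le_ker p G f hyx
    rw [RingHom.mem_ker, map_sub, RingHom.mem_ker.1 hx, sub_zero] at h
    exact h
  haveI : CharP (AlgebraicClosure (ResidueField A)) p :=
    charP_of_injective_algebraMap (algebraMap (ResidueField A) _).injective p
  have h1 : ∑ e ∈ c.support, (residue A (c e)) ^ p * EGA41.pMonomial (fun i => residue A (f i)) e.1 = 0 := by
    apply (algebraMap (ResidueField A) (AlgebraicClosure (ResidueField A))).injective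
    rw [map_zero, map_sum, ← zero_pow hp.out.ne_zero, ← h0, show y = ∑ e ∈ c.support, (c e) • monomial e.1 (1 : A) from rfl,
      map_sum, sum_pow_char]
    refine Finset.sum_congr rfl fun e _ => ?_
    rw [← C_mul', map_mul, map_mul, mul_pow, map_pow, Θ_C, monomial_eq, C_1, one_mul, map_finsuppProd,
      EGA41.pMonomial, map_finsuppProd, Finsupp.prod, Finsupp.prod, ← Finset.prod_pow]
    congr 1
    refine Finset.prod_congr rfl fun i _ => ?_
    rw [map_pow, map_pow, ← pow_mul, mul_comm, pow_mul, Θ_X_pow]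
  intro e
  by_cases he : e ∈ c.support
  · have h2 := (linearIndependent_iff'.1 hind) c.support
      (fun e => ⟨(residue A (c e)) ^ p, ⟨residue A (c e), rfl⟩⟩) h1 e he
    rw [← residue_eq_zero_iff]
    exact pow_eq_zero_iff hp.out.ne_zero |>.1 (congrArg Subtype.val h2)
  · rw [Finsupp.notMem_support_iff.1 he]
    exact zero_mem _

end Groth.Agent.PPoly4
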